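import Cfsg.Agent.Lib.Classical.SU2
import Cfsg.Agent.Lib.Classical.SLGen
import Cfsg.Agent.Lib.KnownB.PSLAut.Main
import Cfsg.Agent.Lib.Pres.SU.Chain.Three

/-!
The automorphisms of `SU 2` which preserve the diagonal torus are given by a field automorphism and
a diagonal unitary matrix.
-/

set_option autoImplicit false

namespace CfsgLib.Phan

open Matrix CfsgLib.Classical CfsgLib.Classical.Unitary CfsgLib.Pres.SU CfsgLib.Pres.SU.Chain
open scoped MatrixGroups

variable {F : Type*} [Field F] {σ : F →+* F} {q : ℕ}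

/-- The entries of an element of `SU 2` are determined by its first column. -/
theorem su2_entries (h : UFrob σ q) (M : Cfsg.SU 2 F q) :
    M.1.1 1 1 = σ (M.1.1 0 0) ∧ M.1.1 0 1 = -σ (M.1.1 1 0) := by
  have e00 := su_uh h M (Pi.single 0 1) (Pi.single 0 1)
  have e01 := su_uh h M (Pi.single 1 1) (Pi.single 0 1)
  simp [uh, dotProduct, Fin.sum_univ_two] at e00 e01
  have hd : M.1.1 0 0 * M.1.1 1 1 - M.1.1 0 1 * M.1.1 1 0 = 1 := by
    rw [← det_fin_two]; exact M.1.2
  constructor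
  · linear_combination (-(M.1.1 1 1)) * e00 + σ (M.1.1 0 0) * hd + M.1.1 1 0 * e01
  · linear_combination (-(M.1.1 0 1)) * e00 - σ (M.1.1 1 0) * hd + M.1.1 0 0 * e01

theorem su2_ext (h : UFrob σ q) {M N : Cfsg.SU 2 F q} (h0 : M.1.1 0 0 = N.1.1 0 0)
    (h1 : M.1.1 1 0 = N.1.1 1 0) : M = N := by
  refine Subtype.ext (Subtype.ext ?_)
  obtain ⟨a, b⟩ := su2_entries h M
  obtain ⟨a', b'⟩ := su2_entries h N
  ext i j
  fin_cases i <;> fin_cases j
  · exact h0
  · show M.1.1 0 1 = N.1.1 0 1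
    rw [b, b', h1]
  · exact h1
  · show M.1.1 1 1 = N.1.1 1 1
    rw [a, a', h0]

theorem su2_norm (h : UFrob σ q) (M : Cfsg.SU 2 F q) :
    M.1.1 0 0 * σ (M.1.1 0 0) + M.1.1 1 0 * σ (M.1.1 1 0) = 1 := by
  have := su_uh h M (Pi.single 0 1) (Pi.single 0 1)
  simpa [uh, dotProduct, Fin.sum_univ_two] using this

theorem exists_diag_two (h : UFrob σ q) {x : F} (hx : x * σ x = 1) :
    ∃ M : Cfsg.SU 2 F q, M.1.1 = !![x, 0; 0, σ x] := by
  obtain ⟨M, hM⟩ := exists_su_two h (α := x) (β := 0) (by simp [hx])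
  exact ⟨M, by rw [hM]; simp⟩

variable [Finite F]

/-- The model over the fixed field. -/
theorem exists_model (hF : Nat.card F = q ^ 2) (h : UFrob σ q) :
    ∃ (P : GL (Fin 2) F) (e : SL(2, σ.eqLocusField (RingHom.id F)) ≃* Cfsg.SU 2 F q),
      ∀ g, (e g).1.1 * P.1 = P.1 * g.1.map (σ.eqLocusField (RingHom.id F)).subtype := by
  obtain ⟨P, θ, hθ, hP⟩ := exists_skew_basis hF h.pow h.ne h.invol
  let K := σ.eqLocusField (RingHom.id F)
  let ι : K →+* F := K.subtype
  have hι : ∀ k, σ (ι k) = ι k := fun k => k.2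
  let C : SL(2, K) →* SL(2, F) :=
    (CfsgLib.KnownB.PSLAut.conjSL P).toMonoidHom.comp (Matrix.SpecialLinearGroup.map ι)
  have hC : ∀ g, (C g).1 = P.1 * g.1.map ι * (P⁻¹).1 := fun g => rfl
  have hmem : ∀ g, C g ∈ Cfsg.SU 2 F q := by
    intro g
    refine mem_SU_iff.2 (herm_form_transport h.pow ?_)
    show (C g).1ᵀ * (C g).1.map σ = 1
    have hg : (g.1.map ι)ᵀ * !![0, θ; -θ, 0] * g.1.map ι = !![0, θ; -θ, 0] := by
      have hd : ι (g.1 0 0) * ι (g.1 1 1) - ι (g.1 0 1) * ι (g.1 1 0) = 1 := by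
        rw [← map_mul, ← map_mul, ← map_sub, ← Matrix.det_fin_two, g.2, map_one]
      ext i j
      fin_cases i <;> fin_cases j <;> simp [Matrix.mul_apply, Fin.sum_univ_two]
      · ring
      · linear_combination θ * hd
      · linear_combination (-θ) * hd
      · ring
    have hm : (g.1.map ι).map σ = g.1.map ι := by ext i j; simp [hι]
    rw [hC, Matrix.map_mul, Matrix.map_mul, hm, transpose_mul, transpose_mul]
    calc (P⁻¹).1ᵀ * ((g.1.map ι)ᵀ * P.1ᵀ) * (P.1.map σ * g.1.map ι * (P⁻¹).1.map σ)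
        = (P⁻¹).1ᵀ * ((g.1.map ι)ᵀ * (P.1ᵀ * P.1.map σ) * g.1.map ι) * (P⁻¹).1.map σ := by
          simp only [Matrix.mul_assoc]
      _ = (P⁻¹).1ᵀ * (P.1ᵀ * P.1.map σ) * (P⁻¹).1.map σ := by rw [hP, hg]
      _ = (P.1 * (P⁻¹).1)ᵀ * (P.1 * (P⁻¹).1).map σ := by
          rw [transpose_mul, Matrix.map_mul]; simp only [Matrix.mul_assoc]
      _ = 1 := by
          rw [P.mul_inv, transpose_one, Matrix.map_one σ (map_zero σ) (map_one σ), Matrix.one_mul]
  let C' := C.codRestrict (Cfsg.SU 2 F q) hmem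
  have hinj : Function.Injective C' := by
    intro g g' hgg
    have h1 : Matrix.SpecialLinearGroup.map ι g = Matrix.SpecialLinearGroup.map ι g' :=
      (CfsgLib.KnownB.PSLAut.conjSL P).injective (congrArg Subtype.val hgg)
    exact Subtype.ext (Matrix.map_injective ι.injective (congrArg Subtype.val h1))
  have hb : Function.Bijective C' := by
    refine (Nat.bijective_iff_injective_and_card C').2 ⟨hinj, ?_⟩
    obtain ⟨e⟩ := SL2_equiv_SU2 (K := K) hF (fixed_card_eq hF h.pow)
    exact (Nat.card_congr e.toEquiv).symm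
  refine ⟨P, MulEquiv.ofBijective C' hb, fun g => ?_⟩
  show P.1 * g.1.map ι * (P⁻¹).1 * P.1 = _
  rw [Matrix.mul_assoc (P.1 * g.1.map ι), P.inv_mul, Matrix.mul_one]

/-- A central element with square one and a hom into the centre. -/
theorem aut_eq_of_descend {K : Type*} [Field K] {a b : MulAut (SL(2, K))}
    (e : CfsgLib.KnownB.PSLAut.descend a = CfsgLib.KnownB.PSLAut.descend b) : a = b := by
  have hz : ∀ x, (b x)⁻¹ * a x ∈ Subgroup.center (SL(2, K)) := fun x => by
    have := congrArg (fun f : MulAut _ => f (QuotientGroup.mk x)) e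
    simp only [CfsgLib.KnownB.PSLAut.descend_mk] at this
    exact QuotientGroup.eq.1 this.symm
  have hsq : ∀ z ∈ Subgroup.center (SL(2, K)), ∃ c : K, c * c = 1 ∧ z.1 = Matrix.scalar (Fin 2) c := by
    intro z hz
    obtain ⟨r, hr, hr'⟩ := Matrix.SpecialLinearGroup.mem_center_iff.1 hz
    exact ⟨r, by simpa [pow_two] using hr, hr'.symm⟩
  let f : SL(2, K) →* SL(2, K) :=
    { toFun := fun x => (b x)⁻¹ * a x
      map_one' := by simp
      map_mul' := fun x y => by
        have hc := Subgroup.mem_center_iff.1 (hz x) (b y)⁻¹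
        calc (b (x * y))⁻¹ * a (x * y) = (b y)⁻¹ * ((b x)⁻¹ * a x) * a y := by
              rw [map_mul, map_mul]; group
          _ = (b x)⁻¹ * a x * ((b y)⁻¹ * a y) := by rw [hc]; group }
  have hf : f = 1 := by
    refine hom_ext_transvection fun i j hij c => ?_
    obtain ⟨r, hr, hr'⟩ := hsq _ (hz (Matrix.SpecialLinearGroup.transvection hij c))
    by_cases h2 : (2 : K) = 0
    · have : (r - 1) * (r - 1) = 0 := by linear_combination hr + (1 - r) * h2
      have hr1 : r = 1 := sub_eq_zero.1 (mul_self_eq_zero.1 this)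
      exact Subtype.ext (hr'.trans (by rw [hr1, map_one]; rfl))
    · have hw : Matrix.SpecialLinearGroup.transvection hij c =
          Matrix.SpecialLinearGroup.transvection hij (c / 2) *
            Matrix.SpecialLinearGroup.transvection hij (c / 2) := by
        refine Subtype.ext ?_
        show _ = _ * _
        rw [Matrix.SpecialLinearGroup.transvection_coe, Matrix.SpecialLinearGroup.transvection_coe]
        show Matrix.transvection i j c = Matrix.transvection i j (c / 2) * Matrix.transvection i j (c / 2)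
        rw [Matrix.transvection_mul_transvection_same (i := i) (j := j) (h := hij),
          show c / 2 + c / 2 = c by field_simp; ring]
      rw [hw, map_mul]
      obtain ⟨s, hs, hs'⟩ := hsq _ (hz (Matrix.SpecialLinearGroup.transvection hij (c / 2)))
      refine Subtype.ext ((congrArg₂ (· * ·) hs' hs').trans ?_)
      show Matrix.scalar (Fin 2) s * Matrix.scalar (Fin 2) s = (1 : Matrix (Fin 2) (Fin 2) K)
      rw [← map_mul, hs, map_one]
  refine MulEquiv.ext fun x => ?_
  have := DFunLike.congr_fun hf x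
  exact (inv_mul_eq_one.1 this).symm

/-- Field automorphisms of a subfield extend. -/
theorem exists_extend (K : Subfield F) (τ : K ≃+* K) : ∃ τ' : F ≃+* F, ∀ x : K, τ' x = τ x := by
  obtain ⟨p, hp⟩ := CharP.exists F
  have : Fact p.Prime := ⟨CharP.char_is_prime F p⟩
  have : CharP K p := (RingHom.charP_iff K.subtype K.subtype.injective p).2 hp
  let aK : Algebra (ZMod p) K := ZMod.algebra K p
  let aF : Algebra (ZMod p) F := ZMod.algebra F p
  have : @IsScalarTower (ZMod p) K F aK.toSMul _ aF.toSMul :=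
    @IsScalarTower.of_algebraMap_eq' (ZMod p) K F _ _ _ aK _ aF (Subsingleton.elim _ _)
  let τ1 : K ≃ₐ[ZMod p] K := AlgEquiv.ofRingEquiv (f := τ) fun x =>
    RingHom.congr_fun (Subsingleton.elim (τ.toRingHom.comp (algebraMap (ZMod p) K))
      (algebraMap (ZMod p) K)) x
  exact ⟨(τ1.liftNormal F).toRingEquiv, fun x => τ1.liftNormal_commutes F x⟩

/-- The automorphisms preserving the diagonal torus. -/
theorem exists_field_diag (hF : Nat.card F = q ^ 2) (h : UFrob σ q)
    (α : MulAut (Cfsg.SU 2 F q)) (hT : ∀ M, M.1.1 1 0 = 0 → (α M).1.1 1 0 = 0) :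
    ∃ (τ : F ≃+* F) (c : F), c * σ c = 1 ∧
      ∀ M, (α M).1.1 0 0 = τ (M.1.1 0 0) ∧ (α M).1.1 1 0 = c * τ (M.1.1 1 0) := by
  obtain ⟨P, e, he⟩ := exists_model hF h
  let K := σ.eqLocusField (RingHom.id F)
  obtain ⟨g, τ, e', he', hdec⟩ := CfsgLib.KnownB.PSLAut.decomp (F := K) le_rfl
    (CfsgLib.KnownB.PSLAut.descend ((e.trans α).trans e.symm))
  obtain rfl : e' = 1 := he'.resolve_right fun hc => absurd hc.2 (by norm_num)
  rw [mul_one, CfsgLib.KnownB.PSLAut.δ, CfsgLib.KnownB.PSLAut.fld, MonoidHom.comp_apply,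
    MonoidHom.comp_apply, ← map_mul] at hdec
  have hα0 := aut_eq_of_descend hdec
  obtain ⟨τ', hτ'⟩ := exists_extend K τ
  have hσ : ∀ x, τ' (σ x) = σ (τ' x) := fun x => by rw [h.pow, map_pow, ← h.pow]
  -- the matrix of the automorphism
  obtain ⟨A, hA⟩ : ∃ A : GL (Fin 2) F, A =
      P * Matrix.GeneralLinearGroup.map K.subtype g *
        (Matrix.GeneralLinearGroup.map (τ' : F →+* F) P)⁻¹ := ⟨_, rfl⟩
  have hconj : ∀ M : Cfsg.SU 2 F q, (α M).1.1 * A.1 = A.1 * M.1.1.map τ' := by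
    intro M
    obtain ⟨x, rfl⟩ := e.surjective M
    have h1 : α (e x) = e (CfsgLib.KnownB.PSLAut.conjSL g (CfsgLib.KnownB.PSLAut.fieldSL τ x)) := by
      have := DFunLike.congr_fun hα0 x
      simp only [MulEquiv.trans_apply, MulEquiv.symm_apply_eq] at this
      exact this
    have h2 : (e x).1.1.map τ' * P.1.map τ' = P.1.map τ' * (x.1.map τ).map K.subtype := by
      rw [← Matrix.map_mul, he, Matrix.map_mul]
      congr 1
      ext i j
      exact hτ' (x.1 i j)
    obtain ⟨Q, hQ⟩ : ∃ Q, Q = Matrix.GeneralLinearGroup.map (τ' : F →+* F) P := ⟨_, rfl⟩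
    have hQv : Q.1 = P.1.map τ' := by rw [hQ]; rfl
    have hgv : (Matrix.GeneralLinearGroup.map K.subtype g).1 = g.1.map K.subtype := rfl
    rw [hA, ← hQ, Units.val_mul, Units.val_mul, hgv, ← Matrix.mul_assoc, ← Matrix.mul_assoc, h1, he,
      CfsgLib.KnownB.PSLAut.conjSL_coe, CfsgLib.KnownB.PSLAut.fieldSL_coe, Matrix.map_mul,
      Matrix.map_mul]
    have h3 : (e x).1.1.map τ' * Q.1 = Q.1 * (x.1.map τ).map K.subtype := by rw [hQv]; exact h2
    have h4 : (Q⁻¹).1 * (e x).1.1.map τ' = (x.1.map τ).map K.subtype * (Q⁻¹).1 := by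
      calc (Q⁻¹).1 * (e x).1.1.map τ'
          = (Q⁻¹).1 * ((e x).1.1.map τ' * Q.1) * (Q⁻¹).1 := by
            simp only [Matrix.mul_assoc, Q.mul_inv, Matrix.mul_one]
        _ = _ := by rw [h3, ← Matrix.mul_assoc (Q⁻¹).1, Q.inv_mul, Matrix.one_mul]
    have h5 : ((g⁻¹ : GL (Fin 2) K)).1.map K.subtype * g.1.map K.subtype = 1 := by
      rw [← Matrix.map_mul, g.inv_mul, Matrix.map_one _ (map_zero _) (map_one _)]
    simp only [Matrix.mul_assoc]
    rw [h4, ← Matrix.mul_assoc (((g⁻¹ : GL (Fin 2) K)).1.map K.subtype), h5, Matrix.one_mul]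
  -- the matrix is monomial
  obtain ⟨x, hx, hx1⟩ := exists_normOne_sq_ne_one hF
  replace hx : x * σ x = 1 := by rw [h.pow, ← pow_succ']; exact hx
  obtain ⟨D, hD⟩ := exists_diag_two h hx
  have hd0 : (α D).1.1 1 0 = 0 := hT D (by rw [hD]; simp)
  obtain ⟨-, hd1⟩ := su2_entries h (α D)
  rw [hd0, map_zero, neg_zero] at hd1
  have hne : τ' x ≠ τ' (σ x) := fun e => hx1 (by
    have e' := τ'.injective e
    rw [pow_two]; nth_rw 2 [e']
    exact hx)
  obtain ⟨-, hrow⟩ := And.intro hD (hconj D)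
  have r00 := congrFun (congrFun hrow 0) 0
  have r01 := congrFun (congrFun hrow 0) 1
  have r10 := congrFun (congrFun hrow 1) 0
  have r11 := congrFun (congrFun hrow 1) 1
  simp [Matrix.mul_apply, Fin.sum_univ_two, hD, hd0, hd1] at r00 r01 r10 r11
  have hdet : A.1 0 0 * A.1 1 1 - A.1 0 1 * A.1 1 0 ≠ 0 := by
    rw [← det_fin_two]; exact (Matrix.GeneralLinearGroup.det A).ne_zero
  obtain ⟨S, hS⟩ := exists_su_two h (α := (0 : F)) (β := 1) (by simp)
  have hS0 : S.1.1 0 0 = 0 := by rw [hS]; rfl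
  have hS1 : S.1.1 1 0 = 1 := by rw [hS]; rfl
  have key : ∀ (τ'' : F ≃+* F) (c : F),
      (∀ M, (α M).1.1 0 0 = τ'' (M.1.1 0 0) ∧ (α M).1.1 1 0 = c * τ'' (M.1.1 1 0)) →
      c * σ c = 1 := by
    intro τ'' c hM
    have := su2_norm h (α S)
    rw [(hM S).1, (hM S).2, hS0, hS1] at this
    simpa using this
  have hcase : A.1 0 0 = 0 ∨ A.1 0 1 = 0 := by
    by_contra hh
    push Not at hh
    have a : (α D).1.1 0 0 = τ' x := mul_right_cancel₀ hh.1 (r00.trans (mul_comm _ _))
    have b : (α D).1.1 0 0 = τ' (σ x) := mul_right_cancel₀ hh.2 (r01.trans (mul_comm _ _))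
    exact hne (a.symm.trans b)
  have hcase' : A.1 1 0 = 0 ∨ A.1 1 1 = 0 := by
    by_contra hh
    push Not at hh
    have a : (α D).1.1 1 1 = τ' x := mul_right_cancel₀ hh.1 (r10.trans (mul_comm _ _))
    have b : (α D).1.1 1 1 = τ' (σ x) := mul_right_cancel₀ hh.2 (r11.trans (mul_comm _ _))
    exact hne (a.symm.trans b)
  rcases hcase with h00 | h01
  · have h11 : A.1 1 1 = 0 := hcase'.resolve_left fun e => hdet (by rw [h00, e]; ring)
    have h01 : A.1 0 1 ≠ 0 := fun e => hdet (by rw [h00, e]; ring)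
    have h10 : A.1 1 0 ≠ 0 := fun e => hdet (by rw [h00, e]; ring)
    let τ'' : F ≃+* F := (RingEquiv.ofBijective σ ⟨σ.injective, fun y => ⟨σ y, h.invol y⟩⟩).trans τ'
    have hM : ∀ M, (α M).1.1 0 0 = τ'' (M.1.1 0 0) ∧
        (α M).1.1 1 0 = -(A.1 1 0 / A.1 0 1) * τ'' (M.1.1 1 0) := by
      intro M
      have c := hconj M
      have c01 := congrFun (congrFun c 0) 1
      have c11 := congrFun (congrFun c 1) 1
      simp [Matrix.mul_apply, Fin.sum_univ_two, h00, h11] at c01 c11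
      obtain ⟨m11, m01⟩ := su2_entries h M
      constructor
      · show _ = τ' (σ (M.1.1 0 0))
        rw [← m11]
        exact mul_right_cancel₀ h01 (c01.trans (mul_comm _ _))
      · show _ = _ * τ' (σ (M.1.1 1 0))
        rw [m01, map_neg] at c11
        field_simp
        linear_combination c11
    exact ⟨τ'', _, key _ _ hM, hM⟩
  · have h10 : A.1 1 0 = 0 := hcase'.resolve_right fun e => hdet (by rw [h01, e]; ring)
    have h00 : A.1 0 0 ≠ 0 := fun e => hdet (by rw [h01, e]; ring)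
    have hM : ∀ M, (α M).1.1 0 0 = τ' (M.1.1 0 0) ∧
        (α M).1.1 1 0 = A.1 1 1 / A.1 0 0 * τ' (M.1.1 1 0) := by
      intro M
      have c := hconj M
      have c00 := congrFun (congrFun c 0) 0
      have c10 := congrFun (congrFun c 1) 0
      simp [Matrix.mul_apply, Fin.sum_univ_two, h01, h10] at c00 c10
      refine ⟨mul_right_cancel₀ h00 (c00.trans (mul_comm _ _)), ?_⟩
      field_simp
      linear_combination c10
    exact ⟨τ', _, key _ _ hM, hM⟩

end CfsgLib.Phan
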