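import Cfsg.Agent.Lib.Phan.Blocks

/-!
Systems of homomorphisms of consecutive blocks into a group, paired with the blocks themselves: the
data of the covering step for the subgroup of the first coordinates.
-/

set_option autoImplicit false

namespace CfsgLib.Phan

open Matrix CfsgLib.Classical CfsgLib.Classical.Unitary CfsgLib.Pres.SU CfsgLib.Pres.SU.Chain

variable {F : Type*} [Field F] {σ : F →+* F} {q N : ℕ} {G : Type*} [Group G]

/-- Homomorphisms of the blocks of two and of three coordinates, compatible, and commuting for blocks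
of two coordinates which do not meet. -/
structure Sys (h : UFrob σ q) (N : ℕ) (G : Type*) [Group G] where
  ν : ℕ → Cfsg.SU 2 F q →* G
  κ : ℕ → Cfsg.SU 3 F q →* G
  κ_left : ∀ i, i + 3 ≤ N → ∀ M, κ i (embF h (sh 0 (show 0 + 2 ≤ 3 by omega)) M) = ν i M
  κ_right : ∀ i, i + 3 ≤ N → ∀ M, κ i (embF h (sh 1 (show 1 + 2 ≤ 3 by omega)) M) = ν (i + 1) M
  comm : ∀ i j, i + 2 ≤ j → j + 2 ≤ N → ∀ x y, Commute (ν i x) (ν j y)

namespace Sys

variable {h : UFrob σ q} (S : Sys h N G)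

/-- A block of three coordinates in the product. -/
def K (i : ℕ) (hi : i + 3 ≤ N) : Cfsg.SU 3 F q →* G × Cfsg.SU N F q :=
  (S.κ i).prod (embF h (sh i hi))

/-- A block of two coordinates in the product. -/
def W (i : ℕ) (hi : i + 2 ≤ N) : Cfsg.SU 2 F q →* G × Cfsg.SU N F q :=
  (S.ν i).prod (embF h (sh i hi))

theorem K_apply (i : ℕ) (hi : i + 3 ≤ N) (M : Cfsg.SU 3 F q) :
    S.K i hi M = (S.κ i M, embF h (sh i hi) M) := rfl

theorem K_left (i : ℕ) (hi : i + 3 ≤ N) (M : Cfsg.SU 2 F q) :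
    S.K i hi (embF h (sh 0 (show 0 + 2 ≤ 3 by omega)) M) = S.W i (by omega) M :=
  Prod.ext (S.κ_left i hi M)
    ((embF_sh_sh h 0 i _ hi M).trans (embF_congr h (sh_congr (by omega) _) M))

theorem K_right (i : ℕ) (hi : i + 3 ≤ N) (M : Cfsg.SU 2 F q) :
    S.K i hi (embF h (sh 1 (show 1 + 2 ≤ 3 by omega)) M) = S.W (i + 1) (by omega) M :=
  Prod.ext (S.κ_right i hi M) (embF_sh_sh h 1 i _ hi M)

theorem W_comm (i j : ℕ) (hij : i + 2 ≤ j) (hj : j + 2 ≤ N) (x y : Cfsg.SU 2 F q) :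
    Commute (S.W i (by omega) x) (S.W j hj y) :=
  Prod.ext (S.comm i j hij hj x y) (commute_sh h hij _ hj x y)

/-- The subgroup of the first coordinates. -/
def Z (m : ℕ) : Subgroup (G × Cfsg.SU N F q) :=
  Subgroup.closure {z | ∃ (i : ℕ) (hi : i + 3 ≤ N), i + 3 ≤ m ∧ z ∈ (S.K i hi).range}

theorem K_mem {m : ℕ} (i : ℕ) (hi : i + 3 ≤ N) (him : i + 3 ≤ m) (M : Cfsg.SU 3 F q) :
    S.K i hi M ∈ S.Z m := Subgroup.subset_closure ⟨i, hi, him, M, rfl⟩

theorem Z_mono {m m' : ℕ} (hmm : m ≤ m') : S.Z m ≤ S.Z m' :=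
  Subgroup.closure_mono fun _ ⟨i, hi, him, hz⟩ => ⟨i, hi, le_trans him hmm, hz⟩

theorem snd_Z {m : ℕ} (hm : 0 + m ≤ N) {z : G × Cfsg.SU N F q} (hz : z ∈ S.Z m) :
    z.2 ∈ (embF h (sh 0 hm)).range := by
  have : S.Z m ≤ (embF h (sh 0 hm)).range.comap (MonoidHom.snd G _) := by
    rw [Z, Subgroup.closure_le]
    rintro _ ⟨i, hi, him, M, rfl⟩
    exact ⟨embF h (sh i him) M,
      (embF_sh_sh h i 0 him hm M).trans (embF_congr h (sh_congr (by omega) _) M)⟩
  exact this hz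

/-- The projection of the first coordinates. -/
noncomputable def proj (m : ℕ) (hm : 0 + m ≤ N) : S.Z m →* Cfsg.SU m F q :=
  (MonoidHom.ofInjective (embF_injective h (sh 0 hm))).symm.toMonoidHom.comp
    (((MonoidHom.snd G _).comp (S.Z m).subtype).codRestrict _ fun z => S.snd_Z hm z.2)

theorem proj_spec {m : ℕ} (hm : 0 + m ≤ N) (z : S.Z m) :
    embF h (sh 0 hm) (S.proj m hm z) = z.1.2 :=
  MonoidHom.apply_ofInjective_symm (embF_injective h (sh 0 hm)) _

theorem proj_eq {m : ℕ} (hm : 0 + m ≤ N) (z : S.Z m) (g : Cfsg.SU m F q)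
    (e : z.1.2 = embF h (sh 0 hm) g) : S.proj m hm z = g :=
  embF_injective h (sh 0 hm) ((S.proj_spec hm z).trans e)

/-- A homomorphism on the first coordinates compatible with the system. -/
structure Ext (m : ℕ) (hm : 0 + m ≤ N) where
  φ : Cfsg.SU m F q →* G × Cfsg.SU N F q
  snd_eq : ∀ g, (φ g).2 = embF h (sh 0 hm) g
  mem : ∀ g, φ g ∈ S.Z m
  block : ∀ i (hi : i + 3 ≤ m) M, φ (embF h (sh i hi) M) = S.K i (by omega) M

variable {S}

/-- The subgroup of the step. -/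
def Ext.sub {m : ℕ} {hm : 0 + m ≤ N} (E : S.Ext m hm) : Subgroup (S.Z (m + 1)) :=
  (E.φ.codRestrict (S.Z (m + 1)) fun g => S.Z_mono (Nat.le_succ m) (E.mem g)).range

theorem Ext.mem_sub {m : ℕ} {hm : 0 + m ≤ N} (E : S.Ext m hm) {z : S.Z (m + 1)}
    {g : Cfsg.SU m F q} (e : E.φ g = z.1) : z ∈ E.sub :=
  ⟨g, Subtype.ext e⟩

theorem Ext.proj_sub {m : ℕ} {hm : 0 + m ≤ N} (E : S.Ext m hm) (hm' : 0 + (m + 1) ≤ N)
    {z : S.Z (m + 1)} {g : Cfsg.SU m F q} (e : E.φ g = z.1) :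
    S.proj (m + 1) hm' z = embF h (sh 0 (show 0 + m ≤ m + 1 by omega)) g :=
  S.proj_eq hm' z _ (by rw [← e, E.snd_eq, embF_sh_sh])

/-- A bijective projection gives the homomorphism. -/
noncomputable def Ext.ofBijective {m : ℕ} (hm : 0 + m ≤ N)
    (hb : Function.Bijective (S.proj m hm)) : S.Ext m hm where
  φ := (S.Z m).subtype.comp (MulEquiv.ofBijective _ hb).symm.toMonoidHom
  snd_eq g := by
    have := S.proj_spec hm ((MulEquiv.ofBijective _ hb).symm g)
    rw [show S.proj m hm ((MulEquiv.ofBijective _ hb).symm g) = g from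
      (MulEquiv.ofBijective _ hb).apply_symm_apply g] at this
    exact this.symm
  mem g := ((MulEquiv.ofBijective _ hb).symm g).2
  block i hi M := by
    have e : S.proj m hm ⟨S.K i (by omega) M, S.K_mem i _ hi M⟩ = embF h (sh i hi) M :=
      S.proj_eq hm _ _ (((embF_sh_sh h i 0 hi hm M).trans
        (embF_congr h (sh_congr (by omega) _) M)).symm)
    rw [← e]
    exact congrArg Subtype.val ((MulEquiv.ofBijective _ hb).symm_apply_apply _)

/-- The first three coordinates. -/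
def Ext.three (hN : 0 + 3 ≤ N) : S.Ext 3 hN where
  φ := S.K 0 hN
  snd_eq g := rfl
  mem g := S.K_mem 0 hN le_rfl g
  block i hi M := by
    obtain rfl : i = 0 := by omega
    rw [embF_sh_self]

/-- The data of the step. -/
theorem stepData {s : ℕ} (hs : 0 + (s + 3 + 1) ≤ N)
    (E : S.Ext (s + 3) (by omega)) {t : Cfsg.SU 2 F q}
    (t1 : t.1.1 *ᵥ Pi.single 1 1 = Pi.single 0 1) (t0 : t.1.1 *ᵥ Pi.single 0 1 = Pi.single 1 (-1))
    (hgen : ∀ M, S.K (s + 1) (by omega) M ∈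
      Subgroup.closure ((Set.range E.φ) ∪ {S.W (s + 2) (by omega) t}))
    (hcomm : ∀ g : Cfsg.SU (s + 3) F q, g.1.1 *ᵥ Pi.single (Fin.last (s + 2)) 1 =
      Pi.single (Fin.last (s + 2)) 1 → Commute (S.W (s + 2) (by omega) t) (E.φ g)) :
    ∃ (T : S.Z (s + 3 + 1)) (d c : One σ (s + 3 + 1)),
      T.1 = S.W (s + 2) (by omega) t ∧ d.1 = Pi.single (Fin.last (s + 3)) 1 ∧
        c.1 = Pi.single (Fin.last (s + 2)).castSucc 1 ∧
        StepData σ (S.proj (s + 3 + 1) hs) E.sub T d c := by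
  set π := S.proj (s + 3 + 1) hs with hπ
  have hlo : 0 + (s + 3) ≤ s + 3 + 1 := by omega
  have hWm : S.W (s + 2) (by omega) t ∈ S.Z (s + 3 + 1) := by
    rw [← S.K_right (s + 1) (by omega)]
    exact S.K_mem _ _ le_rfl _
  let T : S.Z (s + 3 + 1) := ⟨_, hWm⟩
  have πT : π T = embF h (sh (s + 2) (show s + 2 + 2 ≤ s + 3 + 1 by omega)) t :=
    S.proj_eq hs T _ ((embF_sh_sh h (s + 2) 0 _ hs t).trans
      (embF_congr h (sh_congr (by omega) _) t)).symm
  have ea : (sh (s + 2) (show s + 2 + 2 ≤ s + 3 + 1 by omega) (1 : Fin 2)) = Fin.last (s + 3) :=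
    Fin.ext (by simp)
  have eb : (sh (s + 2) (show s + 2 + 2 ≤ s + 3 + 1 by omega) (0 : Fin 2)) =
      (Fin.last (s + 2)).castSucc := Fin.ext (by simp)
  have td := sh_single h (s + 2) (show s + 2 + 2 ≤ s + 3 + 1 by omega) t t1
  have tc := sh_single h (s + 2) (show s + 2 + 2 ≤ s + 3 + 1 by omega) t t0
  rw [ea, eb] at td
  rw [ea, eb] at tc
  -- the elements of the block of three coordinates
  let hi3 : s + 1 + 3 ≤ N := by omega
  have hW1 : ∀ M, S.W (s + 1) (by omega) M =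
      E.φ (embF h (sh s (show s + 3 ≤ s + 3 by omega)) (embF h (sh 1 (show 1 + 2 ≤ 3 by omega)) M)) :=
    fun M => by rw [E.block, S.K_right]
  obtain ⟨⟨Mb, hMb⟩, Mr, hMr⟩ := three_back h t1 t0
  let P : Cfsg.SU 2 F q → S.Z (s + 3 + 1) := fun M =>
    ⟨S.W (s + 1) (by omega) M, by
      rw [hW1]; exact S.Z_mono (Nat.le_succ _) (E.mem _)⟩
  have Pmem : ∀ M, P M ∈ E.sub := fun M => E.mem_sub (hW1 M).symm
  have πP : ∀ M, π (P M) = embF h (sh (s + 1) (show s + 1 + 2 ≤ s + 3 + 1 by omega)) M := fun M => by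
    rw [hπ, E.proj_sub hs (hW1 M).symm, embF_sh_sh, embF_sh_sh]
    exact embF_congr h (sh_congr (by omega) _) M
  have ec : (Fin.last (s + 2)).castSucc =
      sh (s + 1) (show s + 1 + 2 ≤ s + 3 + 1 by omega) (1 : Fin 2) := Fin.ext (by simp)
  refine ⟨T, ⟨Pi.single (Fin.last (s + 3)) 1, by simp [uh_single_left]⟩,
    ⟨Pi.single (Fin.last (s + 2)).castSucc 1, by simp [uh_single_left]⟩, rfl, rfl, rfl, ?_⟩
  constructor
  case gen =>
    refine eq_top_iff.2 fun z _ => ?_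
    have hC : S.Z (s + 3 + 1) ≤
        Subgroup.closure ((Set.range E.φ) ∪ {S.W (s + 2) (by omega) t}) := by
      rw [Z, Subgroup.closure_le]
      rintro _ ⟨i, hi, him, M, rfl⟩
      rcases Nat.lt_or_ge i (s + 1) with hlt | hge
      · exact Subgroup.subset_closure (Or.inl ⟨_, E.block i (by omega) M⟩)
      · obtain rfl : i = s + 1 := by omega
        exact hgen M
    have hle : Subgroup.closure ((Set.range E.φ) ∪ {S.W (s + 2) (by omega) t}) ≤
        (Subgroup.closure ((E.sub : Set (S.Z (s + 3 + 1))) ∪ {T})).map (S.Z (s + 3 + 1)).subtype := by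
      rw [Subgroup.closure_le]
      rintro _ (⟨g, rfl⟩ | rfl)
      · exact ⟨⟨E.φ g, S.Z_mono (Nat.le_succ _) (E.mem g)⟩,
          Subgroup.subset_closure (Or.inl (E.mem_sub rfl)), rfl⟩
      · exact ⟨T, Subgroup.subset_closure (Or.inr rfl), rfl⟩
    obtain ⟨z', hz', e⟩ := hle (hC z.2)
    rwa [← Subtype.ext e]
  case inj =>
    rintro _ ⟨g, rfl⟩ e
    have hg := E.proj_sub hs (z := (E.φ.codRestrict (S.Z (s + 3 + 1)) fun g =>
      S.Z_mono (Nat.le_succ _) (E.mem g)) g) (g := g) rfl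
    rw [← hπ, e, eq_comm, ← map_one (embF h (sh 0 hlo))] at hg
    rw [embF_injective h _ hg, map_one]
  case fix =>
    rintro _ ⟨g, rfl⟩
    rw [hπ, E.proj_sub hs (g := g) rfl]
    exact sh_fix h 0 _ g (Or.inr (by simp)) 1
  case onto =>
    intro g hg
    obtain ⟨g', rfl⟩ := mem_range_init h hlo g hg
    exact ⟨⟨E.φ g', S.Z_mono (Nat.le_succ _) (E.mem g')⟩, E.mem_sub rfl, E.proj_sub hs rfl⟩
  case dc => simp [uh_single_left, Fin.ext_iff]
  case td =>
    show (π T).1.1 *ᵥ Pi.single (Fin.last (s + 3)) 1 = Pi.single (Fin.last (s + 2)).castSucc 1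
    rw [πT, td]
  case tc =>
    show (π T).1.1 *ᵥ Pi.single (Fin.last (s + 2)).castSucc 1 = -Pi.single (Fin.last (s + 3)) 1
    rw [πT, tc, Pi.single_neg]
  case comm =>
    rintro _ ⟨g, rfl⟩ hgc
    refine Subtype.ext (hcomm g ?_)
    rw [hπ, E.proj_sub hs (g := g) rfl] at hgc
    have hl : (Fin.last (s + 2)).castSucc = sh 0 hlo (Fin.last (s + 2)) := Fin.ext (by simp)
    change (embF h (sh 0 hlo) g).1.1 *ᵥ Pi.single (Fin.last (s + 2)).castSucc 1 =
      Pi.single (Fin.last (s + 2)).castSucc 1 at hgc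
    rw [hl, embF_single, ← colMat_single] at hgc
    exact Amalg.colMat_injective (sh 0 hlo) hgc
  case back =>
    refine ⟨P (t * t), Pmem _, ?_, ?_⟩
    · show (π (P (t * t))).1.1 *ᵥ Pi.single (Fin.last (s + 2)).castSucc 1 =
        -Pi.single (Fin.last (s + 2)).castSucc 1
      rw [πP, ec, sh_single h _ _ _ (swap_sq t1 t0), Pi.single_neg]
    · refine E.mem_sub (g := embF h (sh s (show s + 3 ≤ s + 3 by omega))
        (embF h (sh 1 (show 1 + 2 ≤ 3 by omega)) Mb)) ?_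
      rw [← hW1, ← S.K_left (s + 1) hi3, hMb, map_mul, map_mul, S.K_right, S.K_left]
      rfl
  case braid =>
    refine ⟨P t, Pmem _, ?_, ?_⟩
    · show uh σ ((π (P t)).1.1 *ᵥ Pi.single (Fin.last (s + 2)).castSucc 1) _ = 0
      rw [πP, ec, sh_single h _ _ _ t1, uh_single_right, Pi.single_eq_of_ne, zero_mul]
      exact fun e => by have := congrArg Fin.val e; simp at this
    · refine E.mem_sub (g := embF h (sh s (show s + 3 ≤ s + 3 by omega))
        (embF h (sh 1 (show 1 + 2 ≤ 3 by omega)) Mr)) ?_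
      rw [← hW1, ← S.K_left (s + 1) hi3, hMr]
      simp only [map_mul, map_inv, S.K_right, S.K_left]
      rfl

end Sys

end CfsgLib.Phan
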