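import Cfsg.Agent.Lib.Phan.Twist
import Cfsg.Agent.Lib.Phan.AutTwo
import Cfsg.Agent.Lib.Phan.System
import Cfsg.Prelude.Def_PhanSystems

/-!
Weak Phan systems: the isomorphisms with the blocks can be chosen to agree on the overlaps.
-/

set_option autoImplicit false

namespace CfsgLib.Phan

open Matrix CfsgLib.Classical CfsgLib.Classical.Unitary CfsgLib.Pres.SU CfsgLib.Pres.SU.Chain

variable {F : Type*} [Field F] {σ : F →+* F} {q k n : ℕ} {G : Type*} [Group G]

/-- The prelude's block subgroup. -/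
theorem suBlock_eq_range (h : UFrob σ q) (f : Fin k ↪ Fin n) :
    Cfsg.suBlock n F q (Set.range f) = (embF h f).range := by
  refine le_antisymm ((Subgroup.closure_le _).2 fun A hA => ?_) ?_
  · refine mem_range_embF h f A fun j hj => funext fun l => ?_
    obtain ⟨hjj, hjl⟩ := hA j (by rintro ⟨i, e⟩; exact hj i e)
    rw [mulVec_single_one]
    rcases eq_or_ne l j with rfl | hl
    · simpa using hjj
    · simpa [hl] using (hjl l hl).2
  · rintro _ ⟨M, rfl⟩
    refine Subgroup.subset_closure fun j hj => ?_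
    have hj' : ∀ i, f i ≠ j := fun i e => hj ⟨i, e⟩
    have col : ∀ l, (embF h f M).1.1 l j = (Pi.single j (1 : F) : Fin n → F) l := fun l => by
      rw [← embF_fix h f M hj' (1 : F), mulVec_single_one]; rfl
    refine ⟨by rw [col]; simp, fun l hl => ⟨?_, by rw [col]; simp [hl]⟩⟩
    have := embF_off h f M (Pi.single l 1) hj'
    rw [mulVec_single_one] at this
    simpa [hl.symm] using this

theorem range_sh_left : Set.range (sh 0 (show 0 + 2 ≤ 3 by omega) : Fin 2 ↪ Fin 3) = {0, 1} := by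
  ext j
  constructor
  · rintro ⟨i, rfl⟩
    fin_cases i <;> simp [Fin.ext_iff]
  · rintro (rfl | rfl)
    · exact ⟨0, rfl⟩
    · exact ⟨1, rfl⟩

theorem range_sh_right : Set.range (sh 1 (show 1 + 2 ≤ 3 by omega) : Fin 2 ↪ Fin 3) = {1, 2} := by
  ext j
  constructor
  · rintro ⟨i, rfl⟩
    fin_cases i <;> simp [Fin.ext_iff]
  · rintro (rfl | rfl)
    · exact ⟨0, rfl⟩
    · exact ⟨1, rfl⟩

/-- A homomorphism of `SU 3` carrying the blocks to two subgroups, with scalar kernel. -/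
structure IsChart (h : UFrob σ q) (κ : Cfsg.SU 3 F q →* G) (A B : Subgroup G) : Prop where
  left : (κ.comp (embF h (sh 0 (show 0 + 2 ≤ 3 by omega)))).range = A
  right : (κ.comp (embF h (sh 1 (show 1 + 2 ≤ 3 by omega)))).range = B
  ker : ∀ g, κ g = 1 → ∃ l : F, ∀ x, g.1.1 *ᵥ x = l • x

variable {h : UFrob σ q}

theorem IsChart.inj {κ : Cfsg.SU 3 F q →* G} {A B : Subgroup G} (C : IsChart h κ A B)
    (i : ℕ) (hi : i + 2 ≤ 3) : Function.Injective (κ.comp (embF h (sh i hi))) := by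
  refine (injective_iff_map_eq_one _).2 fun M hM => ?_
  obtain ⟨l, hl⟩ := C.ker _ hM
  obtain ⟨j, hj⟩ : ∃ j : Fin 3, j.val < i ∨ i + 2 ≤ j.val := by
    rcases Nat.eq_zero_or_pos i with rfl | hp
    · exact ⟨2, Or.inr (by simp)⟩
    · exact ⟨0, Or.inl (by simp; omega)⟩
  have hl1 : l = 1 := by
    have := congrFun ((hl (Pi.single j 1)).symm.trans (sh_fix h i hi M hj 1)) j
    simpa using this
  refine embF_injective h (sh i hi) (?_ : _ = embF h (sh i hi) 1)
  rw [map_one]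
  exact su_ext fun x => by rw [hl, hl1, one_smul, su_one_mulVec]

variable [Finite F]

/-- Central elements are scalar. -/
theorem center_scalar (hF : Nat.card F = q ^ 2) (h : UFrob σ q) {z : Cfsg.SU 3 F q}
    (hz : z ∈ Subgroup.center (Cfsg.SU 3 F q)) : ∃ l : F, ∀ x, z.1.1 *ᵥ x = l • x := by
  obtain ⟨t, t1, t0⟩ := exists_swap h
  obtain ⟨l, hl⟩ : ∃ l, l = (z.1.1 *ᵥ Pi.single 2 1) 2 := ⟨_, rfl⟩
  have hfix : ∀ M, (embF h (sh 0 (show 0 + 2 ≤ 3 by omega)) M).1.1 *ᵥ (z.1.1 *ᵥ Pi.single 2 1) =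
      z.1.1 *ᵥ Pi.single 2 1 := fun M => by
    rw [← su_mul_mulVec, Subgroup.mem_center_iff.1 hz, su_mul_mulVec,
      sh_fix h 0 _ M (Or.inr (by simp))]
  obtain ⟨x, hx, hx1⟩ := exists_normOne_sq_ne_one hF
  replace hx : x * σ x = 1 := by rw [h.pow, ← pow_succ']; exact hx
  obtain ⟨D, hD⟩ := exists_diag_two h hx
  have hxne : x ≠ 1 := fun e => hx1 (by rw [e, one_pow])
  have hσxne : σ x ≠ 1 := fun e => hxne (by simpa [e] using hx)
  obtain ⟨w, hw⟩ : ∃ w, w = z.1.1 *ᵥ Pi.single 2 1 := ⟨_, rfl⟩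
  have hv : ∀ i : Fin 2, w (sh 0 (show 0 + 2 ≤ 3 by omega) i) = 0 := by
    intro i
    have := congrFun (hfix D) (sh 0 (show 0 + 2 ≤ 3 by omega) i)
    rw [← hw, embF_on, hD] at this
    fin_cases i <;> simp [Matrix.mulVec, dotProduct, Fin.sum_univ_two] at this ⊢
    · exact eq_zero_of_mul_eq_self_left hxne this
    · exact eq_zero_of_mul_eq_self_left hσxne this
  have h2 : z.1.1 *ᵥ Pi.single 2 1 = Pi.single 2 l := by
    funext j
    fin_cases j
    · exact (congrFun hw.symm 0).trans (hv 0)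
    · exact (congrFun hw.symm 1).trans (hv 1)
    · simp [hl]
  refine ⟨l, fun v => ?_⟩
  have hj : ∀ j, z.1.1 *ᵥ Pi.single j 1 = l • Pi.single j 1 := by
    intro j
    obtain ⟨g, hg⟩ := exists_su_map hF h (on_single (σ := σ) (a := (Pi.single 2 1 : Fin 3 → F))
      (by simp [uh_single_left])) (on_single (σ := σ) (a := (Pi.single j 1 : Fin 3 → F))
      (by simp [uh_single_left])) (by omega)
    have e : g.1.1 *ᵥ Pi.single 2 1 = Pi.single j 1 := hg 0
    rw [← e, ← su_mul_mulVec, ← Subgroup.mem_center_iff.1 hz g, su_mul_mulVec, h2, su_single]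
  rw [← Finset.univ_sum_single v, mulVec_sum, Finset.smul_sum]
  exact Finset.sum_congr rfl fun j _ => by
    rw [su_single, hj, smul_comm, ← Pi.single_smul, smul_eq_mul, mul_one]

/-- Standard pairs give charts. -/
theorem exists_chart (hF : Nat.card F = q ^ 2) (h : UFrob σ q) {V A B : Subgroup G}
    (hV : Cfsg.IsStandardUnitaryPair V A B F q) :
    ∃ κ : Cfsg.SU 3 F q →* G, IsChart h κ A B ∧ κ.range = V := by
  unfold Cfsg.IsStandardUnitaryPair at hV
  simp only [← range_sh_left, ← range_sh_right, suBlock_eq_range h, MonoidHom.map_range] at hV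
  rcases hV with ⟨ψ, hA, hB⟩ | ⟨ψ, hA, hB⟩
  · refine ⟨V.subtype.comp ψ.toMonoidHom, ⟨hA, hB, fun g hg => ⟨1, fun x => ?_⟩⟩, ?_⟩
    · have : g = 1 := ψ.injective ((Subtype.ext (hg.trans rfl)).trans (map_one ψ).symm)
      rw [this, su_one_mulVec, one_smul]
    · rw [MonoidHom.range_comp, MonoidHom.range_eq_top.2 ψ.surjective, ← MonoidHom.range_eq_map,
        Subgroup.range_subtype]
  · refine ⟨V.subtype.comp (ψ.toMonoidHom.comp
      (QuotientGroup.mk' (Subgroup.center (Cfsg.SU 3 F q)))), ⟨hA, hB, fun g hg => ?_⟩, ?_⟩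
    · have e : QuotientGroup.mk' (Subgroup.center (Cfsg.SU 3 F q)) g = 1 :=
        ψ.injective ((Subtype.ext (hg.trans rfl)).trans (map_one ψ).symm)
      exact center_scalar hF h ((QuotientGroup.eq_one_iff g).1 e)
    · rw [MonoidHom.range_comp, MonoidHom.range_eq_top.2
        (ψ.surjective.comp (QuotientGroup.mk'_surjective _)), ← MonoidHom.range_eq_map,
        Subgroup.range_subtype]

omit [Finite F] in
/-- What normalises the first subgroup inside the second. -/
theorem IsChart.normal_diag {κ : Cfsg.SU 3 F q →* G} {A B : Subgroup G} (C : IsChart h κ A B)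
    {E : Cfsg.SU 2 F q} (hE : ∀ a ∈ A, κ (embF h (sh 1 (show 1 + 2 ≤ 3 by omega)) E) * a *
      (κ (embF h (sh 1 (show 1 + 2 ≤ 3 by omega)) E))⁻¹ ∈ A) : E.1.1 1 0 = 0 := by
  obtain ⟨t, t1, t0⟩ := exists_swap h
  set g := embF h (sh 1 (show 1 + 2 ≤ 3 by omega)) E
  set S := embF h (sh 0 (show 0 + 2 ≤ 3 by omega)) t
  have hmem := hE (κ S) (C.left.le ⟨t, rfl⟩)
  rw [← map_inv, ← map_mul, ← map_mul, ← C.left] at hmem
  obtain ⟨M', hM'⟩ := hmem
  obtain ⟨l, hl⟩ := C.ker ((embF h (sh 0 (show 0 + 2 ≤ 3 by omega)) M')⁻¹ * (g * S * g⁻¹)) (by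
    rw [map_mul, map_inv, inv_mul_eq_one]
    exact hM')
  obtain ⟨v, hv⟩ : ∃ v, v = (g⁻¹).1.1 *ᵥ Pi.single 2 1 := ⟨_, rfl⟩
  have e0 : S.1.1 *ᵥ v = l • v := by
    have := hl (Pi.single 2 1)
    rw [su_mul_mulVec, su_mul_mulVec, su_mul_mulVec, ← hv] at this
    have := congrArg (fun w => (embF h (sh 0 (show 0 + 2 ≤ 3 by omega)) M').1.1 *ᵥ w) this
    simp only [su_mulVec_inv, mulVec_smul, sh_fix h 0 (show 0 + 2 ≤ 3 by omega) M'
      (j := (2 : Fin 3)) (Or.inr (by simp))] at this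
    have := congrArg (fun w => (g⁻¹).1.1 *ᵥ w) this
    simpa only [su_inv_mulVec, mulVec_smul, ← hv] using this
  have hv0 : v 0 = 0 := by
    rw [hv, show (g⁻¹) = embF h (sh 1 (show 1 + 2 ≤ 3 by omega)) E⁻¹ from (map_inv _ _).symm]
    rw [embF_off h (sh 1 _) _ _ (sh_ne (Or.inl (by simp)))]
    simp
  have hv1 : v 1 = 0 := by
    have e1 : (S.1.1 *ᵥ v) 0 = v 1 := by
      have := embF_on h (sh 0 (show 0 + 2 ≤ 3 by omega)) t v 0
      refine this.trans ?_
      rw [← Finset.univ_sum_single (v ∘ _), Fin.sum_univ_two, mulVec_add, su_single, t0, su_single, t1]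
      simp
      rfl
    rw [e0, Pi.smul_apply, hv0, smul_zero] at e1
    exact e1.symm
  have := su_uh h g (Pi.single 1 1) ((g⁻¹).1.1 *ᵥ Pi.single 2 1)
  rw [su_mulVec_inv, ← hv, uh_single_left, hv1, map_zero, mul_zero, uh_single_right, map_one,
    mul_one] at this
  have e := (embF_on h (sh 1 (show 1 + 2 ≤ 3 by omega)) E (Pi.single 1 1) 1).symm.trans this
  have es : (Pi.single 1 1 : Fin 3 → F) ∘ sh 1 (show 1 + 2 ≤ 3 by omega) = Pi.single 0 1 := by
    funext i
    fin_cases i <;> simp [Pi.single_apply, Fin.ext_iff]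
  rw [es, mulVec_single_one] at e
  exact e

/-- The second chart can be adjusted to agree with the first on the overlap. -/
theorem IsChart.adjust (hF : Nat.card F = q ^ 2) {κ ψ : Cfsg.SU 3 F q →* G} {A B B' : Subgroup G}
    (K : IsChart h κ A B) (P : IsChart h ψ B B') (hcomm : ∀ a ∈ A, ∀ b ∈ B', Commute a b) :
    ∃ κ' : Cfsg.SU 3 F q →* G, IsChart h κ' B B' ∧ κ'.range = ψ.range ∧
      κ'.comp (embF h (sh 0 (show 0 + 2 ≤ 3 by omega))) =
        κ.comp (embF h (sh 1 (show 1 + 2 ≤ 3 by omega))) := by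
  set u1 := κ.comp (embF h (sh 1 (show 1 + 2 ≤ 3 by omega)))
  set u0 := ψ.comp (embF h (sh 0 (show 0 + 2 ≤ 3 by omega)))
  let α : MulAut (Cfsg.SU 2 F q) :=
    (MonoidHom.ofInjective (f := u1) (K.inj 1 (by omega))).trans
      ((MulEquiv.subgroupCongr (K.right.trans P.left.symm)).trans
        (MonoidHom.ofInjective (f := u0) (P.inj 0 (by omega))).symm)
  have hα : ∀ M, u0 (α M) = u1 M := fun M =>
    MonoidHom.apply_ofInjective_symm (P.inj 0 (by omega)) _
  have hT : ∀ M, M.1.1 1 0 = 0 → (α M).1.1 1 0 = 0 := by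
    intro D hD
    obtain ⟨x, hx, hx1⟩ := exists_normOne_sq_ne_one hF
    replace hx : x * σ x = 1 := by rw [h.pow, ← pow_succ']; exact hx
    obtain ⟨X, hX⟩ := exists_diag_two h hx
    have hd2 : ∀ i, (![1, x] : Fin 2 → F) i * σ (![1, x] i) = 1 := fun i => by
      fin_cases i <;> simp [hx]
    -- conjugation in the second chart
    set s := embF h (sh 1 (show 1 + 2 ≤ 3 by omega)) X
    have s2 : s.1.1 *ᵥ Pi.single 2 1 = Pi.single 2 (σ x) :=
      sh_single h 1 (show 1 + 2 ≤ 3 by omega) X (a := 1) (b := 1) (by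
        rw [hX]; funext i; fin_cases i <;> simp [Matrix.mulVec, dotProduct, Fin.sum_univ_two])
    have hconj : s * embF h (sh 0 (show 0 + 2 ≤ 3 by omega)) (α D) * s⁻¹ =
        embF h (sh 0 (show 0 + 2 ≤ 3 by omega))
          (twistHom h ![1, x] hd2 (RingEquiv.refl F) (α D)) := by
      have hd3 : ∀ i, (![1, x, σ x] : Fin 3 → F) i * σ (![1, x, σ x] i) = 1 := fun i => by
        fin_cases i <;> simp [hx, h.invol, mul_comm]
      have key : ∀ g : Cfsg.SU 3 F q, s * g * s⁻¹ = twistHom h ![1, x, σ x] hd3 (RingEquiv.refl F) g := by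
        intro g
        refine mul_inv_eq_iff_eq_mul.2 (Subtype.ext (Subtype.ext (Matrix.ext_iff_mulVec.2 fun v => ?_)))
        show (s * g).1.1 *ᵥ v = (_ * s : Cfsg.SU 3 F q).1.1 *ᵥ v
        rw [su_mul_mulVec, su_mul_mulVec]
        have hs : ∀ w, s.1.1 *ᵥ w = fun j => ![1, x, σ x] j * w j := fun w => by
          funext j
          fin_cases j
          · simpa using embF_off h (sh 1 (show 1 + 2 ≤ 3 by omega)) X w (j := 0) (sh_ne (Or.inl (by simp)))
          · refine (embF_on h (sh 1 (show 1 + 2 ≤ 3 by omega)) X w 0).trans ?_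
            simp [hX, Matrix.mulVec, dotProduct, Fin.sum_univ_two]
            exact Or.inl rfl
          · refine (embF_on h (sh 1 (show 1 + 2 ≤ 3 by omega)) X w 1).trans ?_
            simp [hX, Matrix.mulVec, dotProduct, Fin.sum_univ_two]
            exact Or.inl rfl
        funext j
        rw [twistHom_mulVec, hs, hs]
        simp only [RingEquiv.refl_apply]
        congr 1
        refine congrFun (congrArg (fun w => g.1.1 *ᵥ w) (funext fun i => ?_)) j
        rw [← mul_assoc, mul_comm (σ _), hd3, one_mul]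
        rfl
      rw [key, twist_embF]
      have i0 : sh 0 (show 0 + 2 ≤ 3 by omega) (0 : Fin 2) = (0 : Fin 3) := rfl
      have i1 : sh 0 (show 0 + 2 ≤ 3 by omega) (1 : Fin 2) = (1 : Fin 3) := rfl
      refine congrArg _ (su2_ext h ?_ ?_) <;>
        simp [twistHom_entry, i0, i1]
    -- it normalises the first subgroup
    have hy : ∀ a ∈ A, u1 D * a * (u1 D)⁻¹ ∈ A := by
      intro a ha
      rw [← K.left] at ha ⊢
      obtain ⟨M, rfl⟩ := ha
      obtain ⟨M', hM'⟩ := mem_f01 h (embF h (sh 1 (show 1 + 2 ≤ 3 by omega)) D *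
        embF h (sh 0 (show 0 + 2 ≤ 3 by omega)) M *
          (embF h (sh 1 (show 1 + 2 ≤ 3 by omega)) D)⁻¹) (by
        have hv : ((embF h (sh 1 (show 1 + 2 ≤ 3 by omega)) D)⁻¹).1.1 *ᵥ Pi.single 2 1 =
            Pi.single 2 ((D⁻¹).1.1 1 1) := by
          rw [← map_inv]
          refine sh_single h 1 (show 1 + 2 ≤ 3 by omega) D⁻¹ (a := 1) (b := 1) ?_
          obtain ⟨e11, e01⟩ := su2_entries h D⁻¹
          have : (D⁻¹).1.1 1 0 = 0 := by
            have := congrFun (congrFun (congrArg (fun g : Cfsg.SU 2 F q => g.1.1)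
              (inv_mul_cancel D)) 1) 0
            change ((D⁻¹).1.1 * D.1.1) 1 0 = (1 : Matrix (Fin 2) (Fin 2) F) 1 0 at this
            have hD00 : D.1.1 0 0 ≠ 0 := fun e => by
              have := su2_norm h D; simp [e, hD] at this
            simpa [Matrix.mul_apply, Fin.sum_univ_two, hD, hD00] using this
          rw [this, map_zero, neg_zero] at e01
          generalize (D⁻¹).1.1 = E' at e01 ⊢
          funext i
          fin_cases i <;> simp [e01, Matrix.mulVec, dotProduct, Fin.sum_univ_two]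
        rw [su_mul_mulVec, su_mul_mulVec, hv,
          sh_fix h 0 _ M (j := (2 : Fin 3)) (Or.inr (by simp)), ← hv, su_mulVec_inv])
      exact ⟨M', by
        show κ (embF h _ M') = κ (embF h _ D) * κ (embF h _ M) * (κ (embF h _ D))⁻¹
        rw [hM', map_mul, map_mul, map_inv]⟩
    obtain ⟨E, hE⟩ : ψ (s * embF h (sh 0 (show 0 + 2 ≤ 3 by omega)) (α D) * s⁻¹) ∈ u1.range := by
      rw [hconj, K.right, ← P.left]
      exact ⟨_, rfl⟩
    have hE0 : E.1.1 1 0 = 0 := by
      refine K.normal_diag fun a ha => ?_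
      show u1 E * a * (u1 E)⁻¹ ∈ A
      rw [hE, map_mul, map_mul, map_inv, show ψ (embF h _ (α D)) = u1 D from hα D]
      have hsB : ψ s ∈ B' := P.right.le ⟨X, rfl⟩
      have c1 := hy a ha
      have c2 : Commute a (ψ s) := hcomm a ha _ hsB
      have c3 : Commute (u1 D * a * (u1 D)⁻¹) (ψ s) := hcomm _ c1 _ hsB
      have : ψ s * u1 D * (ψ s)⁻¹ * a * (ψ s * u1 D * (ψ s)⁻¹)⁻¹ = u1 D * a * (u1 D)⁻¹ :=
        calc ψ s * u1 D * (ψ s)⁻¹ * a * (ψ s * u1 D * (ψ s)⁻¹)⁻¹
            = ψ s * u1 D * ((ψ s)⁻¹ * a * ψ s) * (u1 D)⁻¹ * (ψ s)⁻¹ := by group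
          _ = ψ s * u1 D * a * (u1 D)⁻¹ * (ψ s)⁻¹ := by
            rw [mul_assoc (ψ s)⁻¹ a, c2.eq, inv_mul_cancel_left]
          _ = ψ s * (u1 D * a * (u1 D)⁻¹) * (ψ s)⁻¹ := by group
          _ = _ := by rw [← c3.eq, mul_inv_cancel_right]
      rw [this]; exact c1
    have hDE : Commute D E := by
      obtain ⟨d11, d01⟩ := su2_entries h D
      obtain ⟨e11, e01⟩ := su2_entries h E
      rw [hD, map_zero, neg_zero] at d01
      rw [hE0, map_zero, neg_zero] at e01
      refine su2_ext h ?_ ?_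
      · show (D.1.1 * E.1.1) 0 0 = (E.1.1 * D.1.1) 0 0
        simp [Matrix.mul_apply, Fin.sum_univ_two, hD, hE0, mul_comm]
      · show (D.1.1 * E.1.1) 1 0 = (E.1.1 * D.1.1) 1 0
        simp [Matrix.mul_apply, Fin.sum_univ_two, hD, hE0]
    have hEt : α E = twistHom h ![1, x] hd2 (RingEquiv.refl F) (α D) :=
      P.inj 0 (by omega) ((hα E).trans (hE.trans (congrArg ψ hconj)))
    have hc : Commute (α D) (α E) := hDE.map α.toMonoidHom
    rw [hEt] at hc
    have h00 := congrFun (congrFun (congrArg (fun g : Cfsg.SU 2 F q => g.1.1) hc.eq) 0) 0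
    obtain ⟨-, b01⟩ := su2_entries h (α D)
    simp only [Subgroup.coe_mul, Matrix.SpecialLinearGroup.coe_mul, Matrix.mul_apply,
      Fin.sum_univ_two, twistHom_entry, b01] at h00
    simp at h00
    have hne : x - σ x ≠ 0 := sub_ne_zero.2 fun e => hx1 (by
      rw [pow_two]; nth_rw 2 [e]; exact hx)
    have : (x - σ x) * ((α D).1.1 1 0 * σ ((α D).1.1 1 0)) = 0 := by linear_combination h00
    simpa using (mul_eq_zero.1 this).resolve_left hne
  obtain ⟨τ, c, hc, hαM⟩ := exists_field_diag hF h α hT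
  have hd : ∀ i, (![1, c, 1] : Fin 3 → F) i * σ (![1, c, 1] i) = 1 := fun i => by
    fin_cases i <;> simp [hc]
  refine ⟨ψ.comp (twistHom h ![1, c, 1] hd τ), ⟨?_, ?_, fun g hg => ?_⟩, ?_, ?_⟩
  · rw [← P.left]
    refine le_antisymm ?_ ?_
    · rintro _ ⟨M, rfl⟩
      exact ⟨_, congrArg ψ (twist_embF h _ hd τ _ M).symm⟩
    · rintro _ ⟨M, rfl⟩
      obtain ⟨M', rfl⟩ := twistHom_surjective h _
        (fun i => hd (sh 0 (show 0 + 2 ≤ 3 by omega) i)) τ M
      exact ⟨M', congrArg ψ (twist_embF h _ hd τ _ M')⟩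
  · rw [← P.right]
    refine le_antisymm ?_ ?_
    · rintro _ ⟨M, rfl⟩
      exact ⟨_, congrArg ψ (twist_embF h _ hd τ _ M).symm⟩
    · rintro _ ⟨M, rfl⟩
      obtain ⟨M', rfl⟩ := twistHom_surjective h _
        (fun i => hd (sh 1 (show 1 + 2 ≤ 3 by omega) i)) τ M
      exact ⟨M', congrArg ψ (twist_embF h _ hd τ _ M')⟩
  · obtain ⟨l, hl⟩ := P.ker _ hg
    refine ⟨τ.symm l, fun v => funext fun i => ?_⟩
    have := congrFun (hl (fun j => ![1, c, 1] j * τ (v j))) i
    rw [twistHom_mulVec] at this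
    simp only [← mul_assoc, mul_comm (σ _) (![1, c, 1] _), hd, one_mul, RingEquiv.symm_apply_apply,
      Pi.smul_apply, smul_eq_mul] at this
    apply τ.injective
    rw [Pi.smul_apply, smul_eq_mul, map_mul, RingEquiv.apply_symm_apply]
    refine mul_left_cancel₀ (left_ne_zero_of_mul_eq_one (hd i)) (this.trans ?_)
    ring
  · exact le_antisymm (by rintro _ ⟨g, rfl⟩; exact ⟨_, rfl⟩) (by
      rintro _ ⟨g, rfl⟩
      obtain ⟨g', rfl⟩ := twistHom_surjective h _ hd τ g
      exact ⟨g', rfl⟩)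
  · refine MonoidHom.ext fun M => ?_
    rw [MonoidHom.comp_apply, MonoidHom.comp_apply, twist_embF, ← hα]
    refine congrArg u0 (su2_ext h ?_ ?_)
    · rw [twistHom_entry, (hαM M).1]
      show (1 : F) * _ * σ (1 : F) = _
      rw [map_one, mul_one, one_mul]
    · rw [twistHom_entry, (hαM M).2]
      show c * _ * σ (1 : F) = _
      rw [map_one, mul_one]

/-- A weak Phan system gives a system. -/
theorem exists_sys (hF : Nat.card F = q ^ 2) (h : UFrob σ q) {n : ℕ} (hn : 2 ≤ n)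
    (U : Fin n → Subgroup G) (V : Fin n → Fin n → Subgroup G)
    (h1 : ∀ i j : Fin n, (i : ℕ) + 2 ≤ j → ∀ x ∈ U i, ∀ y ∈ U j, x * y = y * x)
    (h2 : ∀ i j : Fin n, (i : ℕ) + 1 = j → Cfsg.IsStandardUnitaryPair (V i j) (U i) (U j) F q) :
    ∃ S : Sys h (n + 1) G, (∀ i (hi : i + 3 ≤ n + 1),
      IsChart h (S.κ i) (U ⟨i, by omega⟩) (U ⟨i + 1, by omega⟩) ∧
        (S.κ i).range = V ⟨i, by omega⟩ ⟨i + 1, by omega⟩) := by
  classical
  have charts : ∀ m, m + 1 ≤ n → ∃ κ : ℕ → Cfsg.SU 3 F q →* G,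
      (∀ i (hi : i < m) (hi' : i + 1 < n), IsChart h (κ i) (U ⟨i, by omega⟩) (U ⟨i + 1, hi'⟩) ∧
        (κ i).range = V ⟨i, by omega⟩ ⟨i + 1, hi'⟩) ∧
      ∀ i, i + 1 < m → (κ (i + 1)).comp (embF h (sh 0 (show 0 + 2 ≤ 3 by omega))) =
        (κ i).comp (embF h (sh 1 (show 1 + 2 ≤ 3 by omega))) := by
    intro m
    induction m with
    | zero => exact fun _ => ⟨fun _ => 1, fun i hi => absurd hi (by omega), fun i hi => absurd hi (by omega)⟩
    | succ m ih =>
      intro hm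
      obtain ⟨κ, hκ, hκ'⟩ := ih (by omega)
      obtain ⟨ψ, hψ, hψr⟩ := exists_chart hF h (h2 ⟨m, by omega⟩ ⟨m + 1, by omega⟩ rfl)
      obtain ⟨ψ', hψ', hψr', hag⟩ : ∃ ψ' : Cfsg.SU 3 F q →* G,
          IsChart h ψ' (U ⟨m, by omega⟩) (U ⟨m + 1, by omega⟩) ∧
          ψ'.range = V ⟨m, by omega⟩ ⟨m + 1, by omega⟩ ∧
          ∀ i, i + 1 = m → ψ'.comp (embF h (sh 0 (show 0 + 2 ≤ 3 by omega))) =
            (κ i).comp (embF h (sh 1 (show 1 + 2 ≤ 3 by omega))) := by
        rcases Nat.eq_zero_or_pos m with hm0 | hm0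
        · exact ⟨ψ, hψ, hψr, fun i hi => absurd hi (by omega)⟩
        · obtain ⟨j, rfl⟩ : ∃ j, m = j + 1 := ⟨m - 1, by omega⟩
          obtain ⟨hK, -⟩ := hκ j (by omega) (by omega)
          obtain ⟨κ', hκ'c, hr, hag⟩ := hK.adjust hF hψ fun a ha b hb =>
            h1 ⟨j, by omega⟩ ⟨j + 1 + 1, by omega⟩ (by show j + 2 ≤ j + 1 + 1; omega) a ha b hb
          exact ⟨κ', hκ'c, hr.trans hψr, fun i hi => by rw [show i = j by omega]; exact hag⟩
      refine ⟨Function.update κ m ψ', fun i hi hi' => ?_, fun i hi => ?_⟩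
      · rcases eq_or_ne i m with rfl | hne
        · rw [Function.update_self]; exact ⟨hψ', hψr'⟩
        · rw [Function.update_of_ne hne]; exact hκ i (by omega) hi'
      · rw [Function.update_of_ne (show i ≠ m by omega)]
        rcases eq_or_ne (i + 1) m with e | hne
        · rw [← e, Function.update_self]; exact hag i e
        · rw [Function.update_of_ne hne]; exact hκ' i (by omega)
  obtain ⟨κ, hκ, hκ'⟩ := charts (n - 1) (by omega)
  let ν : ℕ → Cfsg.SU 2 F q →* G := fun i =>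
    if i + 3 ≤ n + 1 then (κ i).comp (embF h (sh 0 (show 0 + 2 ≤ 3 by omega)))
    else (κ (i - 1)).comp (embF h (sh 1 (show 1 + 2 ≤ 3 by omega)))
  have hν : ∀ i (hi : i + 2 ≤ n + 1), (ν i).range = U ⟨i, by omega⟩ := fun i hi => by
    show (if _ then _ else _ : Cfsg.SU 2 F q →* G).range = _
    split_ifs with hi3
    · exact (hκ i (by omega) (by omega)).1.left
    · rw [(hκ (i - 1) (by omega) (by omega)).1.right]
      exact congrArg U (Fin.ext (by simp; omega))
  refine ⟨⟨ν, κ, fun i hi M => ?_, fun i hi M => ?_, fun i j hij hj x y => ?_⟩,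
    fun i hi => hκ i (by omega) (by omega)⟩
  · show _ = (if _ then _ else _ : Cfsg.SU 2 F q →* G) M
    rw [if_pos hi]; rfl
  · show _ = (if _ then _ else _ : Cfsg.SU 2 F q →* G) M
    split_ifs with hi3
    · exact (DFunLike.congr_fun (hκ' i (by omega)) M).symm
    · rfl
  · exact h1 ⟨i, by omega⟩ ⟨j, by omega⟩ hij _ ((hν i (by omega)).le ⟨x, rfl⟩) _
      ((hν j hj).le ⟨y, rfl⟩)

omit [Finite F] in
/-- A homomorphism compatible with the charts is surjective. -/
theorem surjective_of_charts {n : ℕ} (hn : 2 ≤ n) {S : Sys h (n + 1) G} {U : Fin n → Subgroup G}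
    {V : Fin n → Fin n → Subgroup G}
    (hS : ∀ i (hi : i + 3 ≤ n + 1), IsChart h (S.κ i) (U ⟨i, by omega⟩) (U ⟨i + 1, by omega⟩) ∧
      (S.κ i).range = V ⟨i, by omega⟩ ⟨i + 1, by omega⟩)
    (hgen : (⨆ i, U i) ⊔ (⨆ (i : Fin n) (j : Fin n) (_ : (i : ℕ) + 1 = j), V i j) = ⊤)
    {f : Cfsg.SU (n + 1) F q →* G}
    (hf : ∀ i (hi : i + 3 ≤ n + 1) M, f (embF h (sh i hi) M) = S.κ i M) :
    Function.Surjective f := by
  rw [← MonoidHom.range_eq_top, eq_top_iff, ← hgen]
  have hV : ∀ i (hi : i + 3 ≤ n + 1), (S.κ i).range ≤ f.range := fun i hi => by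
    rintro _ ⟨M, rfl⟩; exact ⟨_, hf i hi M⟩
  refine sup_le (iSup_le fun i => ?_) (iSup_le fun i => iSup_le fun j => iSup_le fun hij => ?_)
  · rcases Nat.lt_or_ge (i.val + 1) n with hlt | hge
    · refine le_trans ?_ (hV i (by omega))
      rw [← (hS i.val (by omega)).1.left]
      rintro _ ⟨M, rfl⟩; exact ⟨_, rfl⟩
    · obtain ⟨m, hm⟩ : ∃ m, i.val = m + 1 := ⟨i.val - 1, by omega⟩
      refine le_trans ?_ (hV m (by omega))
      rw [show i = ⟨m + 1, by omega⟩ from Fin.ext hm, ← (hS m (by omega)).1.right]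
      rintro _ ⟨M, rfl⟩; exact ⟨_, rfl⟩
  · refine le_trans (le_of_eq ?_) (hV i (by omega))
    rw [(hS i.val (by omega)).2]
    exact congrArg (V i) (Fin.ext hij.symm)

end CfsgLib.Phan
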