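import Cfsg.Agent.Lib.Pres.SU.Chain.Three
import Cfsg.Agent.Lib.Pres.SU.Chain.Step

/-!
Blocks of consecutive coordinates in the special unitary groups.
-/

set_option autoImplicit false

namespace CfsgLib.Phan

open Matrix CfsgLib.Classical CfsgLib.Classical.Unitary CfsgLib.Pres.SU CfsgLib.Pres.SU.Chain

variable {F : Type*} [Field F] {σ : F →+* F} {q k l m n : ℕ}

/-- The block of `k` consecutive coordinates starting at `i`. -/
def sh (i : ℕ) (hi : i + k ≤ n) : Fin k ↪ Fin n :=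
  ⟨fun a => ⟨i + a.val, by omega⟩, fun a b e => Fin.ext (by simpa using congrArg Fin.val e)⟩

@[simp]
theorem sh_val (i : ℕ) (hi : i + k ≤ n) (a : Fin k) : (sh i hi a).val = i + a.val := rfl

theorem sh_trans (i j : ℕ) (hi : i + k ≤ m) (hj : j + m ≤ n) :
    (sh i hi).trans (sh j hj) = sh (j + i) (by omega) := by
  ext a
  simp [Nat.add_assoc]

theorem low_eq_sh (hm : m ≤ n) : low hm = sh 0 (by omega) := by
  ext a
  simp [low]

theorem f01_eq : (f01 : Fin 2 ↪ Fin 3) = sh 0 (by omega) := low_eq_sh _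

theorem f12_eq : f12 = sh 1 (show 1 + 2 ≤ 3 by omega) := by
  ext a
  simp [f12]
  omega

theorem sh_congr {i j : ℕ} (e : i = j) (hi : i + k ≤ n) :
    sh i hi = sh j (show j + k ≤ n by omega) := by subst e; rfl

theorem embF_congr (h : UFrob σ q) {f f' : Fin k ↪ Fin n} (e : f = f') (M : Cfsg.SU k F q) :
    embF h f M = embF h f' M := by rw [e]

theorem embF_sh_sh (h : UFrob σ q) (i j : ℕ) (hi : i + k ≤ m) (hj : j + m ≤ n)
    (M : Cfsg.SU k F q) :
    embF h (sh j hj) (embF h (sh i hi) M) = embF h (sh (j + i) (by omega)) M := by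
  rw [embF_comp, sh_trans]

/-- All coordinates. -/
theorem embF_sh_self (h : UFrob σ q) (hn : 0 + n ≤ n) (M : Cfsg.SU n F q) :
    embF h (sh 0 hn) M = M :=
  (embF_ext h _ M (g := M) (fun x a => by
    have e : ∀ b : Fin n, sh 0 hn b = b := fun b => Fin.ext (by simp)
    rw [e, show x ∘ sh 0 hn = x from funext fun b => congrArg x (e b)])
    fun x j hj => absurd (Fin.ext (by simp)) (hj j)).symm

theorem sh_ne {i : ℕ} {hi : i + k ≤ n} {j : Fin n} (hj : j.val < i ∨ i + k ≤ j.val) (a : Fin k) :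
    sh i hi a ≠ j := fun e => by
  have := congrArg Fin.val e
  simp at this
  omega

theorem sh_fix (h : UFrob σ q) (i : ℕ) (hi : i + k ≤ n) (M : Cfsg.SU k F q) {j : Fin n}
    (hj : j.val < i ∨ i + k ≤ j.val) (c : F) :
    (embF h (sh i hi) M).1.1 *ᵥ Pi.single j c = Pi.single j c :=
  embF_fix h _ M (sh_ne hj) c

theorem sh_single (h : UFrob σ q) (i : ℕ) (hi : i + k ≤ n) (M : Cfsg.SU k F q) {a b : Fin k} {s : F}
    (e : M.1.1 *ᵥ Pi.single a 1 = Pi.single b s) :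
    (embF h (sh i hi) M).1.1 *ᵥ Pi.single (sh i hi a) 1 = Pi.single (sh i hi b) s := by
  rw [embF_single, e, colMat_single]

theorem mem_range_sh (h : UFrob σ q) (i : ℕ) (hi : i + k ≤ n) (g : Cfsg.SU n F q)
    (hg : ∀ j : Fin n, j.val < i ∨ i + k ≤ j.val → g.1.1 *ᵥ Pi.single j 1 = Pi.single j 1) :
    g ∈ (embF h (sh i hi)).range :=
  mem_range_embF h _ g fun j hj => hg j (by
    by_contra hc
    push Not at hc
    exact hj ⟨j.val - i, by omega⟩ (Fin.ext (by simp; omega)))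

theorem mem_range_init (h : UFrob σ q) (hk : 0 + k ≤ k + 1) (g : Cfsg.SU (k + 1) F q)
    (hg : g.1.1 *ᵥ Pi.single (Fin.last k) 1 = Pi.single (Fin.last k) 1) :
    g ∈ (embF h (sh 0 hk)).range :=
  mem_range_sh h 0 hk g fun j hj => by
    have : j = Fin.last k := Fin.ext (by simp; omega)
    rw [this, hg]

theorem commute_sh (h : UFrob σ q) {i j : ℕ} (hij : i + k ≤ j) (hi : i + k ≤ n) (hj : j + l ≤ n)
    (M : Cfsg.SU k F q) (M' : Cfsg.SU l F q) :
    Commute (embF h (sh i hi) M) (embF h (sh j hj) M') := by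
  have := commute_embF h (sh j hj) (embF h (sh i hi) M)
    (fun a => sh_fix h i hi M (by simp; omega) 1) M'
  exact mul_inv_eq_iff_eq_mul.1 this

/-- The element exchanging two coordinates. -/
theorem exists_swap (h : UFrob σ q) : ∃ t : Cfsg.SU 2 F q,
    t.1.1 *ᵥ Pi.single 1 1 = Pi.single 0 1 ∧ t.1.1 *ᵥ Pi.single 0 1 = Pi.single 1 (-1) := by
  obtain ⟨t, ht⟩ := exists_su_two h (α := (0 : F)) (β := -1) (by simp)
  refine ⟨t, ?_, ?_⟩ <;>
    (rw [ht]; funext a; fin_cases a <;> simp [Matrix.mulVec, dotProduct, Fin.sum_univ_two])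

theorem swap_sq {t : Cfsg.SU 2 F q} (t1 : t.1.1 *ᵥ Pi.single 1 1 = Pi.single 0 1)
    (t0 : t.1.1 *ᵥ Pi.single 0 1 = Pi.single 1 (-1)) :
    (t * t).1.1 *ᵥ Pi.single 1 1 = Pi.single 1 (-1) := by
  rw [su_mul_mulVec, t1, t0]

/-- The subgroups of three consecutive coordinates generate. -/
theorem top_of_blocks [Finite F] (hF : Nat.card F = q ^ 2) (h : UFrob σ q) :
    ∀ m, 3 ≤ m → ∀ H : Subgroup (Cfsg.SU m F q),
      (∀ i (hi : i + 3 ≤ m) M, embF h (sh i hi) M ∈ H) → H = ⊤ := by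
  intro m hm
  induction m, hm using Nat.le_induction with
  | base =>
    intro H hH
    refine eq_top_iff.2 fun g _ => ?_
    simpa [embF_sh_self] using hH 0 le_rfl g
  | succ m hm ih =>
    intro H hH
    have hlo : 0 + m ≤ m + 1 := by omega
    have hstab : H.comap (embF h (sh 0 hlo)) = ⊤ := ih _ fun i hi M => by
      show embF h (sh 0 hlo) (embF h (sh i hi) M) ∈ H
      rw [embF_sh_sh]
      exact hH _ _ M
    let d : One σ (m + 1) := ⟨Pi.single (Fin.last m) 1, by simp [uh_single_left]⟩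
    obtain ⟨t, t1, -⟩ := exists_swap h
    have hd : Fin.last m = sh (m - 2) (show m - 2 + 3 ≤ m + 1 by omega) (sh 1 (by omega) (1 : Fin 2)) :=
      Fin.ext (by simp; omega)
    have et := sh_single h (m - 2) (show m - 2 + 3 ≤ m + 1 by omega) (embF h (sh 1 (by omega)) t)
      (sh_single h 1 (show 1 + 2 ≤ 3 by omega) t t1)
    refine eq_top_of_stab hF h (by omega) d H (fun g hg => ?_)
      (t := embF h (sh (m - 2) (by omega)) (embF h (sh 1 (by omega)) t)) (hH _ _ _) ?_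
    · obtain ⟨M, rfl⟩ := mem_range_init h hlo g hg
      have : M ∈ H.comap (embF h (sh 0 hlo)) := hstab ▸ Subgroup.mem_top M
      exact this
    · show uh σ ((embF h (sh (m - 2) _) _).1.1 *ᵥ Pi.single (Fin.last m) 1) _ = 0
      rw [hd, et, uh_single_right, Pi.single_eq_of_ne, zero_mul]
      exact fun e => by have := congrArg Fin.val e; simp at this; omega

/-- The first three coordinates and an element moving the last generate `SU 4`. -/
theorem top_four [Finite F] (hF : Nat.card F = q ^ 2) (h : UFrob σ q) {t : Cfsg.SU 2 F q}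
    (t1 : t.1.1 *ᵥ Pi.single 1 1 = Pi.single 0 1) (H : Subgroup (Cfsg.SU 4 F q))
    (h0 : ∀ M, embF h (sh 0 (show 0 + 3 ≤ 4 by omega)) M ∈ H)
    (ht : embF h (sh 2 (show 2 + 2 ≤ 4 by omega)) t ∈ H) : H = ⊤ := by
  let d : One σ 4 := ⟨Pi.single (Fin.last 3) 1, by simp [uh_single_left]⟩
  refine eq_top_of_stab hF h le_rfl d H (fun g hg => ?_) ht ?_
  · obtain ⟨M, rfl⟩ := mem_range_init h (by omega) g hg
    exact h0 M
  · show uh σ ((embF h (sh 2 _) t).1.1 *ᵥ Pi.single (sh 2 (show 2 + 2 ≤ 4 by omega) (1 : Fin 2)) 1) _ = 0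
    rw [sh_single h 2 _ t t1, uh_single_right, Pi.single_eq_of_ne, zero_mul]
    exact fun e => by have := congrArg Fin.val e; simp at this

/-- An element of `SU 3` fixing the last coordinate. -/
theorem mem_f01 (h : UFrob σ q) (g : Cfsg.SU 3 F q)
    (hg : g.1.1 *ᵥ Pi.single 2 1 = Pi.single 2 1) :
    ∃ M, embF h (sh 0 (show 0 + 2 ≤ 3 by omega)) M = g :=
  mem_range_init h (by omega) g hg

/-- The two computations in three coordinates. -/
theorem three_back (h : UFrob σ q) {t : Cfsg.SU 2 F q}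
    (t1 : t.1.1 *ᵥ Pi.single 1 1 = Pi.single 0 1) (t0 : t.1.1 *ᵥ Pi.single 0 1 = Pi.single 1 (-1)) :
    (∃ M, embF h (sh 0 (show 0 + 2 ≤ 3 by omega)) M =
      embF h (sh 1 (show 1 + 2 ≤ 3 by omega)) t * embF h (sh 0 (show 0 + 2 ≤ 3 by omega)) (t * t) *
        embF h (sh 1 (show 1 + 2 ≤ 3 by omega)) t) ∧
    ∃ M, embF h (sh 0 (show 0 + 2 ≤ 3 by omega)) M =
      (embF h (sh 0 (show 0 + 2 ≤ 3 by omega)) t * embF h (sh 1 (show 1 + 2 ≤ 3 by omega)) t)⁻¹ *
        (embF h (sh 1 (show 1 + 2 ≤ 3 by omega)) t * embF h (sh 0 (show 0 + 2 ≤ 3 by omega)) t *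
          embF h (sh 1 (show 1 + 2 ≤ 3 by omega)) t) := by
  have a2 : (embF h (sh 1 (show 1 + 2 ≤ 3 by omega)) t).1.1 *ᵥ Pi.single 2 1 = Pi.single 1 1 :=
    sh_single h 1 (show 1 + 2 ≤ 3 by omega) t (a := 1) (b := 0) t1
  have a1 : (embF h (sh 1 (show 1 + 2 ≤ 3 by omega)) t).1.1 *ᵥ Pi.single 1 1 = Pi.single 2 (-1) :=
    sh_single h 1 (show 1 + 2 ≤ 3 by omega) t (a := 0) (b := 1) t0
  have a0 : (embF h (sh 1 (show 1 + 2 ≤ 3 by omega)) t).1.1 *ᵥ Pi.single 0 1 = Pi.single 0 1 :=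
    sh_fix h 1 _ t (Or.inl (by simp)) 1
  have b1 : (embF h (sh 0 (show 0 + 2 ≤ 3 by omega)) t).1.1 *ᵥ Pi.single 1 1 = Pi.single 0 1 :=
    sh_single h 0 (show 0 + 2 ≤ 3 by omega) t (a := 1) (b := 0) t1
  have c1 : (embF h (sh 0 (show 0 + 2 ≤ 3 by omega)) (t * t)).1.1 *ᵥ Pi.single 1 1 =
      Pi.single 1 (-1) :=
    sh_single h 0 (show 0 + 2 ≤ 3 by omega) (t * t) (a := 1) (b := 1) (swap_sq t1 t0)
  refine ⟨mem_f01 h _ ?_, mem_f01 h _ ?_⟩
  · rw [su_mul_mulVec, su_mul_mulVec, a2, c1, su_single, a1]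
    funext a
    fin_cases a <;> simp
  · rw [su_mul_mulVec, su_mul_mulVec, su_mul_mulVec, a2, b1, a0]
    have e : (embF h (sh 0 (show 0 + 2 ≤ 3 by omega)) t *
        embF h (sh 1 (show 1 + 2 ≤ 3 by omega)) t).1.1 *ᵥ Pi.single 2 1 = Pi.single 0 1 := by
      rw [su_mul_mulVec, a2, b1]
    rw [← e, su_inv_mulVec]

end CfsgLib.Phan
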