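import Cfsg.Agent.Lib.Pres.SU.Cover

/-!
Coverings of graphs: a weaker condition on a vertex and an edge, and squares split by a triangle and
a pentagon.
-/

set_option autoImplicit false

namespace CfsgLib.Pres.SU.Cover

variable {Y Ω : Type*} {C : Cover Y Ω}

/-- A square is closed when a triangle on one side and two squares through a further vertex are. -/
theorem Sq.split {a c w w' x z : Ω} (hax : C.adj a x) (hwx : C.adj w x) (hxz : C.adj x z)
    (hcz : C.adj c z) (hzw' : C.adj z w') (hcw' : C.adj c w') (h₁ : C.Sq x c w z)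
    (h₂ : C.Sq a z x w') : C.Sq a c w w' := by
  intro y y1 y2 zc zc' ey h1 e1 h2 e2 hc ec hc' ec'
  obtain ⟨yx, hyx, eyx⟩ := C.lift y (u := x) (ey ▸ hax)
  have hx1 : C.R yx y1 := C.tri hyx h1 (by rw [eyx, e1]; exact C.adj_symm hwx)
  obtain ⟨yz, hyz, eyz⟩ := C.lift yx (u := z) (eyx ▸ hxz)
  obtain ⟨u, hu, eu⟩ := C.lift yz (u := c) (eyz ▸ C.adj_symm hcz)
  obtain rfl := h₁ yx y1 yz zc u eyx hx1 e1 hyz eyz hc ec hu eu
  obtain ⟨u', hu', eu'⟩ := C.lift y2 (u := z) (e2 ▸ C.adj_symm hzw')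
  obtain rfl := h₂ y yx y2 yz u' ey hyx eyx h2 e2 hyz eyz hu' eu'
  exact C.uniq (C.tri (C.R_symm hu') hu (by rw [e2, eu]; exact C.adj_symm hcw')) hc'
    (ec.trans ec'.symm)

/-- The conclusion under the weaker condition on a vertex and an edge. -/
theorem injective_of_pentagons (y0 : Y) (conn : ∀ y, Relation.ReflTransGen C.R y0 y)
    (two : ∀ a c : Ω, ∃ w, C.adj a w ∧ C.adj c w)
    (three : ∀ a b c : Ω, C.adj b c →
      (∃ w, C.adj a w ∧ C.adj b w ∧ C.adj c w) ∨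
        ∃ u, C.adj b u ∧ C.adj u c ∧ (∃ w, C.adj a w ∧ C.adj b w ∧ C.adj u w) ∧
          ∃ w, C.adj a w ∧ C.adj u w ∧ C.adj c w)
    (square : ∀ a c w w' : Ω, C.adj a w → C.adj c w → C.adj a w' → C.adj c w' → C.Sq a c w w') :
    Function.Injective C.p := by
  let P : Y → Prop := fun y => ∀ w y1, C.adj (C.p y) w → C.R y0 y1 → C.p y1 = w → C.R y1 y
  have step : ∀ a b, C.R a b → P a →
      (∃ z, C.adj (C.p y0) z ∧ C.adj (C.p a) z ∧ C.adj (C.p b) z) → P b := by
    rintro a b hab ih ⟨z, hz0, hza, hzb⟩ w y1 hbw h1 e1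
    obtain ⟨z1, hz1, ez1⟩ := C.lift y0 hz0
    have h3 : C.R z1 b :=
      C.tri (C.R_symm (ih z z1 hza hz1 ez1)) hab (by rw [ez1]; exact C.adj_symm hzb)
    obtain ⟨b', hb', eb'⟩ := C.lift y1 (u := C.p b) (e1 ▸ C.adj_symm hbw)
    obtain rfl := square (C.p y0) (C.p b) w z (e1 ▸ C.R_adj h1) hbw hz0 hzb
      y0 y1 z1 b' b rfl h1 e1 hz1 ez1 hb' eb' h3 rfl
    exact hb'
  have key : ∀ y, P y := by
    intro y
    induction conn y with
    | refl => exact fun w y1 _ h _ => C.R_symm h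
    | @tail a b _ hab ih =>
      rcases three (C.p y0) _ _ (C.R_adj hab) with hw | ⟨u, hau, hub, hw1, hw2⟩
      · exact step a b hab ih hw
      · obtain ⟨yu, hyu, eyu⟩ := C.lift a hau
        have hub' : C.R yu b := C.tri hyu hab (by rw [eyu]; exact hub)
        exact step yu b hub' (step a yu hyu ih (by rw [eyu]; exact hw1)) (by rw [eyu]; exact hw2)
  intro y y' e
  obtain ⟨w, hw0, hwy⟩ := two (C.p y0) (C.p y)
  obtain ⟨y1, h1, e1⟩ := C.lift y0 hw0
  exact C.uniq (key y w y1 hwy h1 e1) (key y' w y1 (e ▸ hwy) h1 e1) e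

end CfsgLib.Pres.SU.Cover
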