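import Cfsg.Agent.Lib.Phan.Cover
import Cfsg.Agent.Lib.Pres.SU.Graph
import Cfsg.Agent.Lib.Classical.SU2

/-!
The graph of orthogonality on the vectors of norm one of a Hermitian space of dimension four over a
field with at least sixteen elements: if the squares with a nondegenerate diagonal are closed in a
covering with lifting of triangles, the covering is injective.
-/

set_option autoImplicit false

namespace CfsgLib.Phan

open Matrix CfsgLib.Classical CfsgLib.Classical.Unitary CfsgLib.Pres.SU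

variable {F : Type*} [Field F] {σ : F →+* F} {q n : ℕ}

/-- The second vector does not differ from a multiple of the first by a nonzero isotropic vector. -/
def Flat (σ : F →+* F) (a c : Fin n → F) : Prop :=
  uh σ (res σ ![a] c) (res σ ![a] c) = 0 → res σ ![a] c = 0

theorem res_single (a c : Fin n → F) : res σ ![a] c = c - uh σ c a • a := by simp [res]

theorem uh_res_single (h : UFrob σ q) {a c : Fin n → F} (ha : uh σ a a = 1) (hc : uh σ c c = 1) :
    uh σ (res σ ![a] c) (res σ ![a] c) = 1 - uh σ c a * σ (uh σ c a) := by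
  have e : uh σ a c = σ (uh σ c a) := (h.symm c a).symm
  simp only [res_single, uh_sub_left, uh_sub_right, uh_smul_left, uh_smul_right, ha, hc, e]
  ring

theorem flat_of_norm (h : UFrob σ q) {a c : Fin n → F} (ha : uh σ a a = 1) (hc : uh σ c c = 1)
    (hne : uh σ c a * σ (uh σ c a) ≠ 1) : Flat σ a c := fun e => by
  rw [uh_res_single h ha hc, sub_eq_zero] at e
  exact absurd e.symm hne

/-- A vector of norm one orthogonal to two orthonormal ones with a given product with an isotropic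
vector orthogonal to them. -/
theorem exists_inner [Finite F] (hF : Nat.card F = q ^ 2) (h : UFrob σ q) (hn : 4 ≤ n) {a b r : Fin n → F}
    (hab : ON σ ![a, b]) (hr0 : r ≠ 0) (hrr : uh σ r r = 0) (hra : uh σ r a = 0) (hrb : uh σ r b = 0)
    {s : F} (hs : s ≠ 0) :
    ∃ x, uh σ x x = 1 ∧ uh σ x a = 0 ∧ uh σ x b = 0 ∧ uh σ x r = s := by
  obtain ⟨α, hα⟩ := exists_alpha hF h
  obtain ⟨g, hg, hgo, hgr⟩ := exists_gu_std_iso h hab hn hα hr0 hrr
    fun i => by fin_cases i <;> assumption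
  obtain ⟨θ, hθ⟩ := exists_trace h
  have hs' : σ s ≠ 0 := by simpa using hs
  obtain ⟨t, ht⟩ : ∃ t, t = θ * (1 - s * σ s) / σ s := ⟨_, rfl⟩
  refine ⟨g.1 *ᵥ (Pi.single ⟨2, by omega⟩ (s + t) + Pi.single ⟨3, by omega⟩ (t * α)), ?_, ?_, ?_, ?_⟩
  · rw [gu_uh h hg]
    simp [uh_add_left, uh_add_right, uh_single_left, Fin.ext_iff]
    rw [ht, map_div₀, map_mul, map_sub, map_one, map_mul, h.invol]
    field_simp
    linear_combination (1 - s * σ s) * (s * σ s) * hθ + θ * σ θ * (1 - s * σ s) ^ 2 * hα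
  · rw [← show g.1 *ᵥ Pi.single (Fin.castLE (by omega) (0 : Fin 2)) 1 = a from hgo 0, gu_uh h hg]
    simp [uh_add_left, uh_single_left, Fin.ext_iff]
  · rw [← show g.1 *ᵥ Pi.single (Fin.castLE (by omega) (1 : Fin 2)) 1 = b from hgo 1, gu_uh h hg]
    simp [uh_add_left, uh_single_left, Fin.ext_iff]
  · rw [← show g.1 *ᵥ (Pi.single ⟨2, by omega⟩ 1 + Pi.single ⟨3, by omega⟩ α) = r from hgr,
      gu_uh h hg]
    simp [uh_add_left, uh_single_left, Fin.ext_iff]
    linear_combination t * hα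

/-- The fixed field has more elements than a short list. -/
theorem exists_fixed_ne [Finite F] (hF : Nat.card F = q ^ 2) (h : UFrob σ q) (S : Finset F)
    (hS : S.card < q) : ∃ t, σ t = t ∧ t ∉ S := by
  by_contra hc
  push Not at hc
  have hK : Nat.card (σ.eqLocusField (RingHom.id F)) = q := fixed_card_eq hF h.pow
  have : Nat.card (σ.eqLocusField (RingHom.id F)) ≤ Nat.card S :=
    Nat.card_le_card_of_injective (fun t => (⟨t.1, hc t.1 t.2⟩ : S))
      fun a b e => Subtype.ext (congrArg (fun x : S => x.1) e)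
  rw [hK, Nat.card_eq_fintype_card, Fintype.card_coe] at this
  omega

/-- Over the field with sixteen elements the norms of `1 - z` for `z` of norm one. -/
theorem exists_split_four [Finite F] (hF : Nat.card F = 4 ^ 2) (h : UFrob σ 4) {v : F}
    (hv : σ v = v) (hv0 : v ≠ 0) (hv1 : v ≠ 1) :
    ∃ η : F, η * σ η = 1 ∧ (1 - η) * σ (1 - η) = v := by
  have h2 : (2 : F) = 0 := by
    obtain ⟨p, hp⟩ := CharP.exists F
    have : Fact p.Prime := ⟨CharP.char_is_prime F p⟩
    have := Fintype.ofFinite F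
    obtain ⟨⟨e, he0⟩, -, he⟩ := FiniteField.card F p
    rw [← Nat.card_eq_fintype_card, hF] at he
    change 4 ^ 2 = p ^ e at he
    have hp2 : p = 2 := (Nat.prime_dvd_prime_iff_eq (Fact.out : p.Prime) Nat.prime_two).1
      ((Fact.out : p.Prime).dvd_of_dvd_pow (n := 4)
        (by rw [show (2 : ℕ) ^ 4 = 4 ^ 2 by norm_num, he]; exact dvd_pow_self p he0.ne'))
    subst hp2
    exact CharTwo.two_eq_zero
  have quad : ∀ x : F, σ x = x → x ≠ 0 → x ≠ 1 → x * x + x + 1 = 0 := by
    intro x hx hx0 hx1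
    rw [h.pow] at hx
    have : x * (x - 1) * (x * x + x + 1) = 0 := by linear_combination hx
    exact (mul_eq_zero.1 this).resolve_left (mul_ne_zero hx0 (sub_ne_zero.2 hx1))
  have : Nontrivial (normOne F 4) := by
    rw [← Finite.one_lt_card_iff_nontrivial, card_normOne hF]
    omega
  obtain ⟨⟨ηu, hηu⟩, hne⟩ := exists_ne (1 : normOne F 4)
  obtain ⟨η, hη⟩ : ∃ η : F, η = ηu := ⟨_, rfl⟩
  have hη5 : η ^ 5 = 1 := by rw [hη]; exact congrArg Units.val (MonoidHom.mem_ker.1 hηu)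
  have hη1 : η ≠ 1 := fun e => hne (Subtype.ext (Units.ext (by rw [← hη, e]; rfl)))
  have hsum : η ^ 4 + η ^ 3 + η ^ 2 + η + 1 = 0 := by
    have : (η - 1) * (η ^ 4 + η ^ 3 + η ^ 2 + η + 1) = 0 := by linear_combination hη5
    exact (mul_eq_zero.1 this).resolve_left (sub_ne_zero.2 hη1)
  have hv2 := quad v hv hv0 hv1
  have : (v - (η + η ^ 4)) * (v - (η ^ 2 + η ^ 3)) = 0 := by
    linear_combination hv2 + (-v + 1) * hsum + (η ^ 2 + η) * hη5 - h2
  rcases mul_eq_zero.1 this with e | e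
  · refine ⟨η, by rw [h.pow]; linear_combination hη5, ?_⟩
    rw [map_sub, map_one, h.pow]
    linear_combination hη5 - e + (1 - η - η ^ 4) * h2
  · refine ⟨η ^ 2, by rw [map_pow, h.pow]; linear_combination (η ^ 5 + 1) * hη5, ?_⟩
    rw [map_sub, map_one, h.pow]
    linear_combination (η ^ 5 + 1) * hη5 - e - η ^ 3 * hη5 + (1 - η ^ 2 - η ^ 3) * h2

variable [Finite F] {Y : Type*}

/-- Squares with a nondegenerate diagonal give the others. -/
theorem square_closed (hF : Nat.card F = q ^ 2) (h : UFrob σ q) (hq : 4 ≤ q) (C : Cover Y (One σ 4))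
    (hadj : ∀ a b, C.adj a b ↔ uh σ a.1 b.1 = 0)
    (flat : ∀ a c w w', C.adj a w → C.adj c w → C.adj a w' → C.adj c w' → Flat σ a.1 c.1 →
      C.Sq a c w w')
    (a c w w' : One σ 4) (haw : C.adj a w) (hcw : C.adj c w) (haw' : C.adj a w')
    (hcw' : C.adj c w') : C.Sq a c w w' := by
  classical
  by_cases hac : Flat σ a.1 c.1
  · exact flat a c w w' haw hcw haw' hcw' hac
  by_cases hww : Flat σ w.1 w'.1
  · exact Cover.Sq.rotate hcw' (flat w w' a c (C.adj_symm haw) (C.adj_symm haw') (C.adj_symm hcw)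
      (C.adj_symm hcw') hww)
  have waw := (hadj _ _).1 haw
  have wcw := (hadj _ _).1 hcw
  have waw' := (hadj _ _).1 haw'
  have wcw' := (hadj _ _).1 hcw'
  obtain ⟨f, hf⟩ : ∃ f, f = uh σ c.1 a.1 := ⟨_, rfl⟩
  obtain ⟨R, hR⟩ : ∃ R, R = res σ ![a.1] c.1 := ⟨_, rfl⟩
  obtain ⟨g, hg⟩ : ∃ g, g = uh σ w'.1 w.1 := ⟨_, rfl⟩
  obtain ⟨R', hR'⟩ : ∃ R', R' = res σ ![w.1] w'.1 := ⟨_, rfl⟩
  unfold Flat at hac hww
  push Not at hac hww
  rw [← hR] at hac
  rw [← hR'] at hww
  have hfN : f * σ f = 1 := by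
    have := hac.1
    rw [hR, uh_res_single h a.2 c.2, sub_eq_zero] at this
    rw [hf]; exact this.symm
  have hgN : g * σ g = 1 := by
    have := hww.1
    rw [hR', uh_res_single h w.2 w'.2, sub_eq_zero] at this
    rw [hg]; exact this.symm
  have hc : c.1 = f • a.1 + R := by rw [hR, hf, res_single, add_sub_cancel]
  have hw' : w'.1 = g • w.1 + R' := by rw [hR', hg, res_single, add_sub_cancel]
  have hRa : uh σ R a.1 = 0 := by
    rw [hR]; exact uh_res_left (on_single a.2) c.1 (0 : Fin 1)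
  have hR'w : uh σ R' w.1 = 0 := by
    rw [hR']; exact uh_res_left (on_single w.2) w'.1 (0 : Fin 1)
  have hRw : uh σ R w.1 = 0 := by
    rw [hc, uh_add_left, uh_smul_left, waw] at wcw; simpa using wcw
  have hR'a : uh σ R' a.1 = 0 := by
    have := h.swap_zero waw'
    rw [hw', uh_add_left, uh_smul_left, h.swap_zero waw] at this; simpa using this
  have hRR' : uh σ R R' = 0 := by
    rw [hc, hw'] at wcw'
    simpa [uh_add_left, uh_add_right, uh_smul_left, uh_smul_right, waw, hRw,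
      h.swap_zero hR'a] using wcw'
  -- the radicals are proportional
  obtain ⟨β, hβ⟩ : ∃ β : F, R' = β • R := by
    obtain ⟨α, hα⟩ := exists_alpha hF h
    obtain ⟨m, hm, hmo, hmr⟩ := exists_gu_std_iso h (on_pair h a.2 w.2 waw) le_rfl hα hac.2
      hac.1 fun i => by fin_cases i <;> assumption
    obtain ⟨y, hy⟩ : ∃ y, y = (m⁻¹).1 *ᵥ R' := ⟨_, rfl⟩
    have hmy : m.1 *ᵥ y = R' := by rw [hy, mulVec_mulVec, m.mul_inv, one_mulVec]
    have hma : m.1 *ᵥ Pi.single (0 : Fin 4) 1 = a.1 := hmo 0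
    have hmw : m.1 *ᵥ Pi.single (1 : Fin 4) 1 = w.1 := hmo 1
    have hmR : m.1 *ᵥ (Pi.single (2 : Fin 4) 1 + Pi.single (3 : Fin 4) α) = R := hmr
    have h0 : y 0 = 0 := by
      have := gu_uh h hm y (Pi.single (0 : Fin 4) 1)
      rw [hma, hmy, hR'a, uh_single_right] at this
      simpa using this.symm
    have h1 : y 1 = 0 := by
      have := gu_uh h hm y (Pi.single (1 : Fin 4) 1)
      rw [hmw, hmy, hR'w, uh_single_right] at this
      simpa using this.symm
    have h23 : y 2 + y 3 * σ α = 0 := by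
      have := gu_uh h hm y (Pi.single (2 : Fin 4) 1 + Pi.single (3 : Fin 4) α)
      rw [hmR, hmy, h.swap_zero hRR', uh_add_right, uh_single_right, uh_single_right] at this
      simp at this
      linear_combination -this
    refine ⟨y 2, ?_⟩
    rw [← hmy, ← hmR, ← mulVec_smul]
    congr 1
    funext i
    fin_cases i <;> simp [h0, h1]
    linear_combination (-α) * h23 + y 3 * hα
  have hβ0 : β ≠ 0 := fun e => hww.2 (by rw [hβ, e, zero_smul])
  -- the main step
  have main : ∀ (u u' : One σ 4) (g β : F), g * σ g = 1 → C.adj a u → C.adj c u → C.adj a u' →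
      C.adj c u' → u'.1 = g • u.1 + β • R →
      (∃ t : F, σ t = t ∧ t ≠ 0 ∧ t ≠ 1 ∧ t * (β * σ β) ≠ 1 ∧ t * (1 + β * σ β) ≠ 1) →
      C.Sq a c u u' := by
    intro u u' g β hgN hau hcu hau' hcu' hu' ⟨t, ht, ht0, ht1, ht2, ht3⟩
    have wau := (hadj _ _).1 hau
    have wcu := (hadj _ _).1 hcu
    have hRu : uh σ R u.1 = 0 := by
      rw [hc, uh_add_left, uh_smul_left, wau] at wcu; simpa using wcu
    obtain ⟨s, hs⟩ : ∃ s : F, s * σ s = t := by
      obtain ⟨s, hs⟩ := exists_pow_succ_eq hF (c := t) (by rw [← h.pow, ht])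
      exact ⟨s, by rwa [pow_succ', ← h.pow] at hs⟩
    have hs0 : s ≠ 0 := fun e => ht0 (by rw [← hs, e, zero_mul])
    obtain ⟨x, hxx, hxa, hxu, hxR⟩ := exists_inner hF h le_rfl (on_pair h a.2 u.2 wau) hac.2 hac.1
      hRa hRu hs0
    obtain ⟨x', hx'x, hx'⟩ := exists_perp h (on_triple h a.2 u.2 hxx wau (h.swap_zero hxa)
      (h.swap_zero hxu)) (by norm_num)
    have hx'a : uh σ x' a.1 = 0 := hx' 0
    have hx'u : uh σ x' u.1 = 0 := hx' 1
    have hx'x0 : uh σ x' x = 0 := hx' 2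
    have hRx : uh σ R x = σ s := by rw [← h.symm x R, hxR]
    -- `R` in the frame `x`, `x'`
    obtain ⟨l, hl⟩ : ∃ l, l = uh σ R x' := ⟨_, rfl⟩
    have hlN : l * σ l = -t := by
      obtain ⟨D, hD⟩ : ∃ D, D = R - σ s • x - l • x' := ⟨_, rfl⟩
      have hD0 : D = 0 := by
        have hD' : ∀ i, uh σ D (![a.1, u.1, x, x'] i) = 0 := by
          intro i
          fin_cases i <;>
            simp [hD, uh_sub_left, uh_smul_left, hRa, hRu, hxa, hxu, hx'a, hx'u, hxx, hx'x, hRx,
              hx'x0, h.swap_zero hx'x0, hl]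
        have hon : ON σ ![a.1, u.1, x, x'] := by
          intro i j
          fin_cases i <;> fin_cases j <;>
            simp [a.2, u.2, hxx, hx'x, wau, hxa, hxu, hx'a, hx'u, hx'x0, h.swap_zero wau,
              h.swap_zero hxa, h.swap_zero hxu, h.swap_zero hx'a, h.swap_zero hx'u,
              h.swap_zero hx'x0]
        by_contra hne
        obtain ⟨m, hm, hmo⟩ := exists_gu_std h hon le_rfl
        obtain ⟨y, hy⟩ : ∃ y, y = (m⁻¹).1 *ᵥ D := ⟨_, rfl⟩
        have hmy : m.1 *ᵥ y = D := by rw [hy, mulVec_mulVec, m.mul_inv, one_mulVec]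
        apply hne
        rw [← hmy, show y = 0 from funext fun i => by
          have := gu_uh h hm y (Pi.single (Fin.castLE (le_refl 4) i) 1)
          rw [hmo i, hmy, hD' i, uh_single_right] at this
          simpa using this.symm, mulVec_zero]
      rw [hD, sub_sub, sub_eq_zero] at hD0
      have := hac.1
      rw [hD0] at this
      simp [uh_add_left, uh_add_right, uh_smul_left, uh_smul_right, hxx, hx'x, hx'x0,
        h.swap_zero hx'x0, h.invol] at this
      rw [← hs]
      linear_combination this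
    -- the fifth vertex
    obtain ⟨b, hb⟩ : ∃ b, b = β * σ β := ⟨_, rfl⟩
    obtain ⟨A, hA⟩ : ∃ A, A = -(σ l) * f := ⟨_, rfl⟩
    obtain ⟨B, hB⟩ : ∃ B, B = -(σ (β * l)) * g := ⟨_, rfl⟩
    obtain ⟨z₀, hz₀⟩ : ∃ z₀, z₀ = x' + A • a.1 + B • u.1 := ⟨_, rfl⟩
    have hz₀x : uh σ z₀ x = 0 := by
      simp [hz₀, uh_add_left, uh_smul_left, hx'x0, h.swap_zero hxa, h.swap_zero hxu]
    have hl' : uh σ x' R = σ l := by rw [hl, h.symm]
    have hz₀c : uh σ z₀ c.1 = 0 := by
      rw [hz₀, hc]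
      simp [uh_add_left, uh_add_right, uh_smul_left, uh_smul_right, hx'a, a.2,
        h.swap_zero wau, h.swap_zero hRa, h.swap_zero hRu, hl']
      rw [hA]
      linear_combination (-(σ l)) * hfN
    have hz₀u' : uh σ z₀ u'.1 = 0 := by
      rw [hz₀, hu']
      simp [uh_add_left, uh_add_right, uh_smul_left, uh_smul_right, hx'u, u.2,
        wau, h.swap_zero hRa, h.swap_zero hRu, hl']
      rw [hB, map_mul]
      linear_combination (-(σ β * σ l)) * hgN
    have hN0 : uh σ z₀ z₀ = 1 - t * (1 + b) := by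
      rw [hz₀]
      simp [uh_add_left, uh_add_right, uh_smul_left, uh_smul_right, hx'x, hx'a, hx'u, a.2, u.2,
        wau, h.swap_zero wau, h.swap_zero hx'a, h.swap_zero hx'u, h.invol, hb]
      rw [hA, hB]
      simp only [map_neg, map_mul, h.invol]
      linear_combination (σ l * l) * hfN + (σ β * β * (σ l * l)) * hgN + (1 + σ β * β) * hlN
    obtain ⟨k, hk0, hk⟩ := exists_normalise hF h (v := z₀) (by
      rw [hN0, sub_ne_zero, hb]; exact Ne.symm ht3)
    obtain ⟨z, hz⟩ : ∃ z : One σ 4, z.1 = k • z₀ := ⟨⟨_, hk⟩, rfl⟩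
    have hkN : k * σ k * (1 - t * (1 + b)) = 1 := by rw [← hN0, ← uh_smul_self]; exact hk
    let vx : One σ 4 := ⟨x, hxx⟩
    have azx : C.adj vx z := (hadj _ _).2 (h.swap_zero (by rw [hz, uh_smul_left, hz₀x, mul_zero]))
    have azc : C.adj c z := (hadj _ _).2 (h.swap_zero (by rw [hz, uh_smul_left, hz₀c, mul_zero]))
    have azu : C.adj z u' := (hadj _ _).2 (by rw [hz, uh_smul_left, hz₀u', mul_zero])
    have aax : C.adj a vx := (hadj _ _).2 (h.swap_zero hxa)
    have aux : C.adj u vx := (hadj _ _).2 (h.swap_zero hxu)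
    refine Cover.Sq.split aax aux azx azc azu hcu' ?_ ?_
    · refine flat vx c u z (C.adj_symm aux) hcu azx azc ?_
      refine flat_of_norm h hxx c.2 ?_
      have e : uh σ c.1 x = σ s := by
        rw [hc, uh_add_left, uh_smul_left, h.swap_zero hxa, hRx, mul_zero, zero_add]
      show uh σ c.1 x * σ (uh σ c.1 x) ≠ 1
      rw [e, h.invol, mul_comm, hs]
      exact ht1
    · refine Cover.Sq.rotate azu ?_
      refine flat vx u' a z (C.adj_symm aax) (C.adj_symm hau') azx (C.adj_symm azu) ?_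
      refine flat_of_norm h hxx u'.2 ?_
      have e : uh σ u'.1 x = β * σ s := by
        rw [hu', uh_add_left, uh_smul_left, uh_smul_left, h.swap_zero hxu, hRx, mul_zero, zero_add]
      show uh σ u'.1 x * σ (uh σ u'.1 x) ≠ 1
      rw [e, map_mul, h.invol]
      intro e'
      exact ht2 (by rw [← hs]; linear_combination e')
  have hbfix : σ (β * σ β) = β * σ β := by rw [map_mul, h.invol, mul_comm]
  have hb0 : β * σ β ≠ 0 := mul_ne_zero hβ0 (by simpa using hβ0)
  have hw'' : w'.1 = g • w.1 + β • R := by rw [hw', hβ]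
  rcases Nat.lt_or_ge q 5 with hq5 | hq5
  · obtain rfl : q = 4 := by omega
    have h2 : (2 : F) = 0 := by
      obtain ⟨η, hη⟩ := exists_fixed_ne hF h {0, 1} (lt_of_le_of_lt Finset.card_le_two (by norm_num))
      simp only [Finset.mem_insert, Finset.mem_singleton, not_or] at hη
      have q1 : ∀ x : F, σ x = x → x ≠ 0 → x ^ 3 = 1 := fun x hx hx0 => by
        rw [h.pow] at hx
        exact mul_left_cancel₀ hx0 (by linear_combination hx)
      by_contra h2
      have := q1 (-1) (by rw [map_neg, map_one]) (neg_ne_zero.2 one_ne_zero)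
      exact h2 (by linear_combination -this)
    have one : ∀ (u u' : One σ 4) (g γ : F), g * σ g = 1 → γ * σ γ = 1 → C.adj a u → C.adj c u →
        C.adj a u' → C.adj c u' → u'.1 = g • u.1 + γ • R → C.Sq a c u u' := by
      intro u u' g γ hg hγ hau hcu hau' hcu' e
      obtain ⟨t, ht, ht'⟩ := exists_fixed_ne hF h {0, 1} (lt_of_le_of_lt Finset.card_le_two (by norm_num))
      simp only [Finset.mem_insert, Finset.mem_singleton, not_or] at ht'
      refine main u u' g γ hg hau hcu hau' hcu' e ⟨t, ht, ht'.1, ht'.2, by rw [hγ, mul_one]; exact ht'.2, ?_⟩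
      rw [hγ, one_add_one_eq_two, h2, mul_zero]
      exact zero_ne_one
    by_cases hb1 : β * σ β = 1
    · exact one w w' g β hgN hb1 haw hcw haw' hcw' hw''
    obtain ⟨s, hs⟩ : ∃ s, s * σ s = β * σ β := ⟨β, rfl⟩
    obtain ⟨η, hη, hη'⟩ := exists_split_four hF h hbfix hb0 hb1
    -- `β` is the sum of two elements of norm one
    have hη10 : (1 : F) - η ≠ 0 := fun e => hb0 (by rw [← hη', e, zero_mul])
    obtain ⟨k, hk⟩ : ∃ k, k = β / (1 - η) := ⟨_, rfl⟩
    have hkN : k * σ k = 1 := by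
      rw [hk, map_div₀]
      have : σ (1 - η) ≠ 0 := (map_ne_zero σ).2 hη10
      field_simp
      linear_combination -hη'
    obtain ⟨mid, hmid⟩ : ∃ m : Fin 4 → F, m = g • w.1 + k • R := ⟨_, rfl⟩
    have hmN : uh σ mid mid = 1 := by
      simp [hmid, uh_add_left, uh_add_right, uh_smul_left, uh_smul_right, w.2, hRw, hac.1,
        h.swap_zero hRw]
      linear_combination hgN
    have hma : uh σ a.1 mid = 0 := by
      simp [hmid, uh_add_right, uh_smul_right, waw, h.swap_zero hRa]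
    have hmc : uh σ c.1 mid = 0 := by
      simp [hc, hmid, uh_add_left, uh_add_right, uh_smul_left, uh_smul_right, waw, hRw, hac.1,
        h.swap_zero hRa]
    refine Cover.Sq.trans (x := ⟨mid, hmN⟩) ((hadj _ _).2 hma) (C.adj_symm ((hadj _ _).2 hmc))
      (one w ⟨mid, hmN⟩ g k hgN hkN haw hcw ((hadj _ _).2 hma) ((hadj _ _).2 hmc) hmid) ?_
    refine one ⟨mid, hmN⟩ w' 1 (-(k * η)) (by simp) (by
      rw [map_neg, map_mul]; linear_combination (η * σ η) * hkN + hη) ((hadj _ _).2 hma)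
      ((hadj _ _).2 hmc) haw' hcw' ?_
    show w'.1 = (1 : F) • mid + -(k * η) • R
    rw [hw'', hmid, one_smul, add_assoc, ← add_smul]
    congr 2
    rw [hk]; field_simp; ring
  · obtain ⟨t, ht, ht'⟩ := exists_fixed_ne hF h {0, 1, (β * σ β)⁻¹, (1 + β * σ β)⁻¹}
      (lt_of_le_of_lt Finset.card_le_four (by omega))
    simp only [Finset.mem_insert, Finset.mem_singleton, not_or] at ht'
    obtain ⟨t0, t1, t2, t3⟩ := ht'
    exact main w w' g β hgN haw hcw haw' hcw' hw'' ⟨t, ht, t0, t1,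
      fun e => t2 (eq_inv_of_mul_eq_one_left e), fun e => t3 (eq_inv_of_mul_eq_one_left e)⟩

/-- A vertex and an edge are joined through one triangle. -/
theorem exists_three (hF : Nat.card F = q ^ 2) (h : UFrob σ q) (hq : 4 ≤ q) (a b c : One σ 4)
    (hbc : uh σ b.1 c.1 = 0) :
    (∃ w : One σ 4, uh σ a.1 w.1 = 0 ∧ uh σ b.1 w.1 = 0 ∧ uh σ c.1 w.1 = 0) ∨
      ∃ u : One σ 4, uh σ b.1 u.1 = 0 ∧ uh σ u.1 c.1 = 0 ∧
        (∃ w : One σ 4, uh σ a.1 w.1 = 0 ∧ uh σ b.1 w.1 = 0 ∧ uh σ u.1 w.1 = 0) ∧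
        ∃ w : One σ 4, uh σ a.1 w.1 = 0 ∧ uh σ u.1 w.1 = 0 ∧ uh σ c.1 w.1 = 0 := by
  classical
  have hbcON := on_pair h b.2 c.2 hbc
  have good : ∀ {x y : One σ 4}, uh σ x.1 y.1 = 0 →
      (uh σ (res σ ![x.1, y.1] a.1) (res σ ![x.1, y.1] a.1) = 0 → res σ ![x.1, y.1] a.1 = 0) →
      ∃ w : One σ 4, uh σ a.1 w.1 = 0 ∧ uh σ x.1 w.1 = 0 ∧ uh σ y.1 w.1 = 0 := by
    intro x y hxy hf
    obtain ⟨z, h1, h2, h3⟩ := exists_perp_one hF h (on_pair h x.2 y.2 hxy) a.1 le_rfl (Or.inr hf)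
    exact ⟨⟨z, h1⟩, h.swap_zero h3, h.swap_zero (h2 0), h.swap_zero (h2 1)⟩
  obtain ⟨r, hr⟩ : ∃ r, r = res σ ![b.1, c.1] a.1 := ⟨_, rfl⟩
  by_cases hf : uh σ r r = 0 → r = 0
  · exact Or.inl (good hbc (by rw [← hr]; exact hf))
  push Not at hf
  have hrb : uh σ r b.1 = 0 := by rw [hr]; exact uh_res_left hbcON a.1 (0 : Fin 2)
  have hrc : uh σ r c.1 = 0 := by rw [hr]; exact uh_res_left hbcON a.1 (1 : Fin 2)
  obtain ⟨α, hα⟩ : ∃ α, α = uh σ a.1 b.1 := ⟨_, rfl⟩
  obtain ⟨β, hβ⟩ : ∃ β, β = uh σ a.1 c.1 := ⟨_, rfl⟩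
  have hres : ∀ {x y : One σ 4}, uh σ x.1 y.1 = 0 →
      uh σ (res σ ![x.1, y.1] a.1) (res σ ![x.1, y.1] a.1) =
        1 - uh σ a.1 x.1 * σ (uh σ a.1 x.1) - uh σ a.1 y.1 * σ (uh σ a.1 y.1) := by
    intro x y hxy
    simp [res, Fin.sum_univ_two, uh_sub_left, uh_sub_right, uh_add_left, uh_add_right, uh_smul_left,
      uh_smul_right, a.2, x.2, y.2, hxy, h.swap_zero hxy, ← h.symm a.1 x.1, ← h.symm a.1 y.1]
    ring
  have hab : (1 : F) - α * σ α - β * σ β = 0 := by
    rw [hα, hβ, ← hres hbc, ← hr]; exact hf.1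
  obtain ⟨t, ht, ht'⟩ := exists_fixed_ne hF h {0, α * σ α, β * σ β}
    (lt_of_le_of_lt Finset.card_le_three (by omega))
  simp only [Finset.mem_insert, Finset.mem_singleton, not_or] at ht'
  obtain ⟨t0, t1, t2⟩ := ht'
  obtain ⟨s, hs⟩ : ∃ s : F, s * σ s = t := by
    obtain ⟨s, hs⟩ := exists_pow_succ_eq hF (c := t) (by rw [← h.pow, ht])
    exact ⟨s, by rwa [pow_succ', ← h.pow] at hs⟩
  obtain ⟨u, huu, hub, huc, hur⟩ := exists_inner hF h le_rfl hbcON hf.2 hf.1 hrb hrc
    (s := s) (fun e => t0 (by rw [← hs, e, zero_mul]))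
  have hau : uh σ a.1 u = σ s := by
    have : uh σ u a.1 = s := by
      rw [← hur, ← h.symm r u, ← h.symm a.1 u]
      congr 1
      rw [hr]
      exact (uh_res_perp h a.1 fun i => by fin_cases i <;> assumption).symm
    rw [← this, h.symm]
  refine Or.inr ⟨⟨u, huu⟩, h.swap_zero hub, huc, good (x := b) (y := ⟨u, huu⟩) (h.swap_zero hub) ?_,
    good (x := ⟨u, huu⟩) (y := c) huc ?_⟩
  · intro e
    rw [hres (x := b) (y := ⟨u, huu⟩) (h.swap_zero hub)] at e
    simp only [hau, h.invol, ← hα] at e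
    exact absurd (by rw [← hs]; linear_combination e - hab) (Ne.symm t2)
  · intro e
    rw [hres (x := ⟨u, huu⟩) (y := c) huc] at e
    simp only [hau, h.invol, ← hβ] at e
    exact absurd (by rw [← hs]; linear_combination e - hab) (Ne.symm t1)

/-- The covering is injective. -/
theorem cover_injective (hF : Nat.card F = q ^ 2) (h : UFrob σ q) (hq : 4 ≤ q)
    (C : Cover Y (One σ 4)) (hadj : ∀ a b, C.adj a b ↔ uh σ a.1 b.1 = 0)
    (flat : ∀ a c w w', C.adj a w → C.adj c w → C.adj a w' → C.adj c w' → Flat σ a.1 c.1 →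
      C.Sq a c w w')
    (y0 : Y) (conn : ∀ y, Relation.ReflTransGen C.R y0 y) : Function.Injective C.p :=
  Cover.injective_of_pentagons y0 conn
    (fun a c => by simp only [hadj]; exact exists_common_two hF h le_rfl a c)
    (fun a b c e => by
      simp only [hadj] at e ⊢
      exact exists_three hF h hq a b c e)
    (square_closed hF h hq C hadj flat)

end CfsgLib.Phan
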