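import Cfsg.Agent.Lib.Phan.Local
import Cfsg.Agent.Lib.Phan.GraphFour

/-!
Four coordinates: a system of two blocks of three coordinates is `SU 4`, over fields with at least
sixteen elements.
-/

set_option autoImplicit false

namespace CfsgLib.Phan

open Matrix CfsgLib.Classical CfsgLib.Classical.Unitary CfsgLib.Pres.SU CfsgLib.Pres.SU.Chain

variable {F : Type*} [Field F] [Finite F] {σ : F →+* F} {q : ℕ} {G : Type*} [Group G]

/-- The first plane and one element moving the last coordinate generate `SU 3`. -/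
theorem top_three (hF : Nat.card F = q ^ 2) (h : UFrob σ q) (hq : 3 ≤ q) {t : Cfsg.SU 2 F q}
    (t1 : t.1.1 *ᵥ Pi.single 1 1 = Pi.single 0 1) (H : Subgroup (Cfsg.SU 3 F q))
    (h0 : ∀ M, embF h (sh 0 (show 0 + 2 ≤ 3 by omega)) M ∈ H)
    (ht : embF h (sh 1 (show 1 + 2 ≤ 3 by omega)) t ∈ H) : H = ⊤ := by
  refine top_of_planes hF h hq H (fun M => by rw [embF_congr h f01_eq]; exact h0 M) fun M => ?_
  rw [embF_congr h f12_eq]
  set T := embF h (sh 1 (show 1 + 2 ≤ 3 by omega)) t
  set S := embF h (sh 0 (show 0 + 2 ≤ 3 by omega)) t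
  set g := embF h (sh 1 (show 1 + 2 ≤ 3 by omega)) M
  have a2 : T.1.1 *ᵥ Pi.single 2 1 = Pi.single 1 1 :=
    sh_single h 1 (show 1 + 2 ≤ 3 by omega) t (a := 1) (b := 0) t1
  have b1 : S.1.1 *ᵥ Pi.single 1 1 = Pi.single 0 1 :=
    sh_single h 0 (show 0 + 2 ≤ 3 by omega) t (a := 1) (b := 0) t1
  have e : (S * T).1.1 *ᵥ Pi.single 2 1 = Pi.single 0 1 := by rw [su_mul_mulVec, a2, b1]
  obtain ⟨M', hM'⟩ := mem_f01 h ((S * T)⁻¹ * g * (S * T)) (by
    rw [su_mul_mulVec, e, su_mul_mulVec, sh_fix h 1 _ M (Or.inl (by simp)), ← e, su_inv_mulVec])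
  have hg : g = (S * T) * embF h (sh 0 (show 0 + 2 ≤ 3 by omega)) M' * (S * T)⁻¹ := by
    rw [hM']; group
  rw [hg]
  exact mul_mem (mul_mem (mul_mem (h0 t) ht) (h0 M')) (inv_mem (mul_mem (h0 t) ht))

namespace Sys

variable {h : UFrob σ q}

set_option maxHeartbeats 800000 in
/-- Four coordinates. -/
theorem exists_four (S : Sys h 4 G) (hF : Nat.card F = q ^ 2) (hq : 4 ≤ q) :
    ∃ f : Cfsg.SU 4 F q →* G, ∀ i (hi : i + 3 ≤ 4) M, f (embF h (sh i hi) M) = S.κ i M := by
  classical
  obtain ⟨t, t1, t0⟩ := exists_swap h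
  let E : S.Ext (0 + 3) (by omega) := Ext.three (by omega)
  have hgen : ∀ M, S.K (0 + 1) (by omega) M ∈
      Subgroup.closure ((Set.range E.φ) ∪ {S.W (0 + 2) (by omega) t}) := by
    intro M
    have htop := top_three hF h (by omega) t1
      ((Subgroup.closure ((Set.range E.φ) ∪ {S.W (0 + 2) (by omega) t})).comap
        (S.K (0 + 1) (by omega)))
      (fun M' => by
        rw [Subgroup.mem_comap, S.K_left]
        exact Subgroup.subset_closure (Or.inl ⟨_, S.K_right 0 (by omega) M'⟩))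
      (by rw [Subgroup.mem_comap, S.K_right]; exact Subgroup.subset_closure (Or.inr rfl))
    exact (htop ▸ Subgroup.mem_top M : M ∈ (Subgroup.closure _).comap _)
  have hcomm : ∀ g : Cfsg.SU (0 + 3) F q, g.1.1 *ᵥ Pi.single (Fin.last (0 + 2)) 1 =
      Pi.single (Fin.last (0 + 2)) 1 → Commute (S.W (0 + 2) (by omega) t) (E.φ g) := by
    intro g hg
    obtain ⟨g', rfl⟩ := mem_range_init h (show 0 + 2 ≤ 2 + 1 by omega) g hg
    show Commute _ (S.K 0 _ (embF h (sh 0 _) g'))
    rw [S.K_left]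
    exact (S.W_comm 0 2 (by omega) (by omega) g' t).symm
  obtain ⟨T, d, c, hT, hd, hc, D⟩ := stepData (show 0 + (0 + 3 + 1) ≤ 4 by omega) E t1 t0 hgen hcomm
  set π := S.proj (0 + 3 + 1) (show 0 + (0 + 3 + 1) ≤ 4 by omega) with hπ
  have hbij : Function.Bijective π := by
    refine D.bijective_of hF h (by omega) fun C hadj hP hR conn => ?_
    refine cover_injective hF h hq C hadj ?_ _ conn
    have hmk : ∀ {a b : S.Z (0 + 3 + 1)}, a⁻¹ * b ∈ E.sub → (a : _ ⧸ E.sub) = b :=
      fun hab => QuotientGroup.eq.2 hab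
    have heq : ∀ {a b : S.Z (0 + 3 + 1)}, (a : _ ⧸ E.sub) = b → a⁻¹ * b ∈ E.sub :=
      fun e => QuotientGroup.eq.1 e
    have htrans : ∀ (g : S.Z (0 + 3 + 1)) {y z : _ ⧸ E.sub}, C.R y z → C.R (g • y) (g • z) := by
      intro g y z hyz
      obtain ⟨x, k, hk, rfl, rfl⟩ := (hR y z).1 hyz
      exact (hR _ _).2 ⟨g * x, k, hk, rfl, by
        show (((g * (x * k * T)) : S.Z (0 + 3 + 1)) : _ ⧸ E.sub) = _
        simp only [mul_assoc]⟩
    have hsurj : Function.Surjective π := by
      have : π.range = ⊤ := eq_top_of_stab hF h (by omega) d π.range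
        (fun g hg => by obtain ⟨x, -, e⟩ := D.onto g hg; exact ⟨x, e⟩) ⟨T, rfl⟩
        (by rw [D.td]; exact h.swap_zero D.dc)
      exact fun g => this ▸ Subgroup.mem_top g |> MonoidHom.mem_range.1
    -- elements of the middle and of the last plane
    let P : Cfsg.SU 2 F q → S.Z (0 + 3 + 1) := fun M => ⟨S.W 1 (by omega) M, by
      rw [← S.K_left 1 (by omega)]; exact S.K_mem 1 _ le_rfl _⟩
    let U : Cfsg.SU 2 F q → S.Z (0 + 3 + 1) := fun M => ⟨S.W 2 (by omega) M, by
      rw [← S.K_right 1 (by omega)]; exact S.K_mem 1 _ le_rfl _⟩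
    let V : Cfsg.SU 2 F q → S.Z (0 + 3 + 1) := fun M => ⟨S.W 0 (by omega) M, by
      rw [← S.K_left 0 (by omega)]; exact S.K_mem 0 _ (by omega) _⟩
    have Pmem : ∀ M, P M ∈ E.sub := fun M => E.mem_sub (S.K_right 0 (by omega) M)
    have Vmem : ∀ M, V M ∈ E.sub := fun M => E.mem_sub (S.K_left 0 (by omega) M)
    have πU : ∀ M, π (U M) = embF h (sh 2 (show 2 + 2 ≤ 0 + 3 + 1 by omega)) M := fun M =>
      S.proj_eq _ _ _ (embF_sh_self h _ _).symm
    have πV : ∀ M, π (V M) = embF h (sh 0 (show 0 + 2 ≤ 0 + 3 + 1 by omega)) M := fun M =>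
      S.proj_eq _ _ _ (embF_sh_self h _ _).symm
    have πP : ∀ M, π (P M) = embF h (sh 1 (show 1 + 2 ≤ 0 + 3 + 1 by omega)) M := fun M =>
      S.proj_eq _ _ _ (embF_sh_self h _ _).symm
    have hd' : d.1 = Pi.single (3 : Fin 4) 1 := hd
    have hc' : c.1 = Pi.single (2 : Fin 4) 1 := hc
    -- the elements of the last plane fix the vertices next to the first over the other plane
    have hfix : ∀ (M : Cfsg.SU 2 F q) (z : _ ⧸ E.sub), C.R ((1 : S.Z (0 + 3 + 1)) : _ ⧸ E.sub) z →
        (C.p z).1 2 = 0 → (C.p z).1 3 = 0 → U M • z = z := by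
      intro M z hz z2 z3
      obtain ⟨a, ha⟩ : ∃ a, a = (C.p z).1 0 := ⟨_, rfl⟩
      obtain ⟨b, hb⟩ : ∃ b, b = (C.p z).1 1 := ⟨_, rfl⟩
      have hab : a * σ a + b * σ b = 1 := by
        have := (C.p z).2
        simp [uh, dotProduct, Fin.sum_univ_four, z2, z3, ← ha, ← hb] at this
        linear_combination this
      obtain ⟨N, hN⟩ := exists_su_two h (α := σ b) (β := -σ a)
        (by simp only [map_neg, h.invol]; linear_combination hab)
      have hN1 : N.1.1 *ᵥ Pi.single 1 1 = ![a, b] := by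
        rw [hN]
        funext i
        fin_cases i <;> simp [Matrix.mulVec, dotProduct, Fin.sum_univ_two, h.invol]
      have step : C.R ((1 : S.Z (0 + 3 + 1)) : _ ⧸ E.sub)
          ((V N * P t * T : S.Z (0 + 3 + 1)) : _ ⧸ E.sub) :=
        (hR _ _).2 ⟨1, V N * P t, mul_mem (Vmem N) (Pmem t), rfl, by rw [one_mul]⟩
      have hzv : z = ((V N * P t * T : S.Z (0 + 3 + 1)) : _ ⧸ E.sub) := by
        refine C.uniq hz step (Subtype.ext ?_)
        rw [hP, map_mul, map_mul, su_mul_mulVec, su_mul_mulVec, D.td, hc', πP, πV]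
        have e1 : (embF h (sh 1 (show 1 + 2 ≤ 0 + 3 + 1 by omega)) t).1.1 *ᵥ Pi.single 2 1 =
            Pi.single 1 1 := sh_single h 1 (show 1 + 2 ≤ 0 + 3 + 1 by omega) t (a := 1) (b := 0) t1
        rw [e1]
        show _ = (embF h (sh 0 (show 0 + 2 ≤ 0 + 3 + 1 by omega)) N).1.1 *ᵥ
          Pi.single (sh 0 (show 0 + 2 ≤ 0 + 3 + 1 by omega) (1 : Fin 2)) 1
        rw [embF_single, hN1]
        funext i
        fin_cases i
        · exact ha.symm.trans (colMat_mulVec (sh 0 _) ![a, b] 0).symm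
        · exact hb.symm.trans (colMat_mulVec (sh 0 _) ![a, b] 1).symm
        · exact z2.trans (colMat_mulVec_off (sh 0 _) ![a, b]
            (sh_ne (Or.inr (by simp)))).symm
        · exact z3.trans (colMat_mulVec_off (sh 0 _) ![a, b]
            (sh_ne (Or.inr (by simp)))).symm
      rw [hzv]
      show ((U M * (V N * P t * T) : S.Z (0 + 3 + 1)) : _ ⧸ E.sub) = _
      refine hmk ?_
      have hUV : Commute (U M) (V N) :=
        (Subtype.ext (S.W_comm 0 2 le_rfl (by omega) N M) : V N * U M = U M * V N).symm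
      -- the computation in the last three coordinates
      set A := embF h (sh 0 (show 0 + 2 ≤ 3 by omega)) t
      set B := embF h (sh 1 (show 1 + 2 ≤ 3 by omega)) t
      set g := embF h (sh 1 (show 1 + 2 ≤ 3 by omega)) M
      have e : (A * B).1.1 *ᵥ Pi.single 2 1 = Pi.single 0 1 := by
        rw [su_mul_mulVec, show B.1.1 *ᵥ Pi.single 2 1 = Pi.single 1 1 from
          sh_single h 1 (show 1 + 2 ≤ 3 by omega) t (a := 1) (b := 0) t1,
          show A.1.1 *ᵥ Pi.single 1 1 = Pi.single 0 1 from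
          sh_single h 0 (show 0 + 2 ≤ 3 by omega) t (a := 1) (b := 0) t1]
      obtain ⟨M', hM'⟩ := mem_f01 h ((A * B)⁻¹ * g * (A * B)) (by
        rw [su_mul_mulVec, e, su_mul_mulVec, sh_fix h 1 _ M (Or.inl (by simp)), ← e, su_inv_mulVec])
      have hK : (P t * T)⁻¹ * U M * (P t * T) = P M' := by
        refine Subtype.ext ?_
        show (S.W 1 _ t * T.1)⁻¹ * S.W 2 _ M * (S.W 1 _ t * T.1) = S.W 1 _ M'
        rw [hT, ← S.K_left 1 (by omega) M', hM', map_mul, map_mul, map_inv, map_mul, S.K_left,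
          S.K_right, S.K_right]
      have : (U M * (V N * P t * T))⁻¹ * (V N * P t * T) = (P M')⁻¹ := by
        rw [← hK]
        calc (U M * (V N * P t * T))⁻¹ * (V N * P t * T)
            = (P t * T)⁻¹ * (V N)⁻¹ * (U M)⁻¹ * V N * (P t * T) := by group
          _ = (P t * T)⁻¹ * (V N)⁻¹ * ((U M)⁻¹ * V N) * (P t * T) := by group
          _ = (P t * T)⁻¹ * (V N)⁻¹ * (V N * (U M)⁻¹) * (P t * T) := by rw [hUV.inv_left.eq]
          _ = _ := by group
      rw [this]
      exact inv_mem (Pmem M')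
    -- squares whose first diagonal lies in the plane of the first and one more vertex
    have gen : ∀ (a x w w' : One σ (0 + 3 + 1)) (a' : Fin (0 + 3 + 1) → F) (f g : F),
        uh σ a' a' = 1 → uh σ a.1 a' = 0 → x.1 = f • a.1 + g • a' →
        uh σ a.1 w.1 = 0 → uh σ a' w.1 = 0 → uh σ a.1 w'.1 = 0 → uh σ a' w'.1 = 0 →
        C.Sq a x w w' := by
      intro a x w w' a' f g ha' haa' hc_eq haw ha'w haw' ha'w'
      intro z z1 z2 zc zc' ez h1 e1 h2 e2 hzc ezc hzc' ezc'
      obtain ⟨s, hs⟩ := exists_su_map hF h (on_pair h d.2 c.2 D.dc) (on_pair h a.2 ha' haa')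
        (by omega)
      obtain ⟨y, hy⟩ := hsurj s
      obtain ⟨x0, rfl⟩ := QuotientGroup.mk_surjective z
      have ez' : (π x0).1.1 *ᵥ d.1 = a.1 := (hP x0).symm.trans (congrArg Subtype.val ez)
      have yd : (π y).1.1 *ᵥ d.1 = a.1 := by rw [hy]; exact hs 0
      obtain ⟨k0, hk0, ek0⟩ := D.onto ((π y)⁻¹ * π x0) (by
        rw [su_mul_mulVec, ez', ← yd, su_inv_mulVec])
      set y' := x0 * k0⁻¹ with hy'
      have hπy' : π y' = π y := by rw [hy', map_mul, map_inv, ek0]; group
      have hz0 : ((x0 : S.Z (0 + 3 + 1)) : _ ⧸ E.sub) = (y' : _ ⧸ E.sub) :=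
        hmk (by rw [hy']; simpa using inv_mem hk0)
      have hy'a : (π y').1.1 *ᵥ d.1 = a.1 := by rw [hπy', yd]
      have hy'a' : (π y').1.1 *ᵥ c.1 = a' := by rw [hπy', hy]; exact hs 1
      rw [hz0] at h1 h2
      -- the element of the last plane
      have hfg : f * σ f + g * σ g = 1 := by
        have := x.2
        rw [hc_eq] at this
        simp only [uh_add_left, uh_add_right, uh_smul_left, uh_smul_right, a.2, ha', haa',
          h.swap_zero haa'] at this
        linear_combination this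
      obtain ⟨M, hM⟩ := exists_su_two h (α := σ f) (β := -σ g)
        (by simp only [map_neg, h.invol]; linear_combination hfg)
      have hM1 : M.1.1 *ᵥ Pi.single 1 1 = Pi.single 0 g + Pi.single 1 f := by
        rw [hM]
        funext i
        fin_cases i <;> simp [Matrix.mulVec, dotProduct, Fin.sum_univ_two, h.invol]
      have moveto : ∀ (zi : _ ⧸ E.sub) (u : One σ (0 + 3 + 1)),
          C.R (y' : _ ⧸ E.sub) zi → C.p zi = u → uh σ a.1 u.1 = 0 → uh σ a' u.1 = 0 →
          C.R ((y' * U M : S.Z (0 + 3 + 1)) : _ ⧸ E.sub) zi := by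
        intro zi u hzi ezi hau ha'u
        have hz' := htrans y'⁻¹ hzi
        rw [show y'⁻¹ • ((y' : S.Z (0 + 3 + 1)) : _ ⧸ E.sub) = ((1 : S.Z (0 + 3 + 1)) : _ ⧸ E.sub) by
          show ((y'⁻¹ * y' : S.Z (0 + 3 + 1)) : _ ⧸ E.sub) = _; rw [inv_mul_cancel]] at hz'
        have hp : (C.p (y'⁻¹ • zi)).1 = ((π y')⁻¹).1.1 *ᵥ u.1 := by
          obtain ⟨v, rfl⟩ := QuotientGroup.mk_surjective zi
          show (C.p ((y'⁻¹ * v : S.Z (0 + 3 + 1)) : _ ⧸ E.sub)).1 = _
          rw [hP, map_mul, map_inv, su_mul_mulVec, ← hP v, ezi]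
        have perp : ∀ v v' : Fin (0 + 3 + 1) → F, (π y').1.1 *ᵥ v = v' → uh σ v' u.1 = 0 →
            uh σ v (C.p (y'⁻¹ • zi)).1 = 0 := fun v v' ev e' => by
          rw [hp, ← su_uh h (π y'), su_mulVec_inv, ev, e']
        have p3 := perp d.1 a.1 hy'a hau
        have p2 := perp c.1 a' hy'a' ha'u
        rw [hd', uh_single_left, one_mul] at p3
        rw [show c.1 = Pi.single (2 : Fin 4) 1 from hc', uh_single_left, one_mul] at p2
        have hu := hfix M _ hz' (by simpa using p2) (by simpa using p3)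
        have h' := htrans (y' * U M) hz'
        rw [show (y' * U M) • (y'⁻¹ • zi) = y' • (U M • (y'⁻¹ • zi)) from mul_smul _ _ _, hu,
          smul_inv_smul] at h'
        rw [show (y' * U M) • ((1 : S.Z (0 + 3 + 1)) : _ ⧸ E.sub) =
          ((y' * U M : S.Z (0 + 3 + 1)) : _ ⧸ E.sub) by
          show ((y' * U M * 1 : S.Z (0 + 3 + 1)) : _ ⧸ E.sub) = _; rw [mul_one]] at h'
        exact h'
      have hpu : C.p ((y' * U M : S.Z (0 + 3 + 1)) : _ ⧸ E.sub) = x := by
        refine Subtype.ext ?_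
        rw [hP, map_mul, su_mul_mulVec, πU, hd']
        have e3 : (embF h (sh 2 (show 2 + 2 ≤ 0 + 3 + 1 by omega)) M).1.1 *ᵥ Pi.single (3 : Fin 4) 1 =
            Pi.single (2 : Fin 4) g + Pi.single (3 : Fin 4) f := by
          show (embF h (sh 2 _) M).1.1 *ᵥ
            Pi.single (sh 2 (show 2 + 2 ≤ 0 + 3 + 1 by omega) (1 : Fin 2)) 1 = _
          rw [embF_single, hM1, mulVec_add, colMat_single, colMat_single]
          rfl
        rw [e3, mulVec_add, su_single, su_single _ (3 : Fin 4) f, ← hd', hy'a, ← hc', hy'a', hc_eq]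
        exact add_comm _ _
      exact (C.uniq (C.R_symm (moveto z1 w h1 e1 haw ha'w)) hzc
        (hpu.trans ezc.symm)).symm.trans
        (C.uniq (C.R_symm (moveto z2 w' h2 e2 haw' ha'w')) hzc' (hpu.trans ezc'.symm))
    -- the squares with a diagonal of the two kinds
    intro a x w w' haw hxw haw' hxw' hflat
    rw [hadj] at haw hxw haw' hxw'
    have hx : x.1 = uh σ x.1 a.1 • a.1 + res σ ![a.1] x.1 := by rw [res_single]; abel
    by_cases h0 : res σ ![a.1] x.1 = 0
    · rw [h0, add_zero] at hx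
      have hne : uh σ x.1 a.1 ≠ 0 := fun e => by
        have := x.2; rw [hx, e, zero_smul, uh_zero_left] at this; exact zero_ne_one this
      -- two perpendicular vertices with a common orthogonal one
      have two : ∀ u u' : One σ (0 + 3 + 1), uh σ a.1 u.1 = 0 → uh σ a.1 u'.1 = 0 →
          Flat σ u.1 u'.1 → C.Sq a x u u' := by
        intro u u' hu hu' hfl
        have hres : res σ ![a.1, u.1] u'.1 = res σ ![u.1] u'.1 := by
          simp [res, Fin.sum_univ_two, h.swap_zero hu']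
        obtain ⟨v, v1, v2, v3⟩ := exists_perp_one hF h (on_pair h a.2 u.2 hu) u'.1 (by omega)
          (Or.inr (by rw [hres]; exact hfl))
        exact gen a x u u' v (uh σ x.1 a.1) 0 v1 (h.swap_zero (v2 0))
          (by rw [zero_smul, add_zero]; exact hx) hu (v2 1) hu' v3
      by_cases hww : Flat σ w.1 w'.1
      · exact two w w' haw haw' hww
      unfold Flat at hww
      push Not at hww
      have hra : uh σ (res σ ![w.1] w'.1) a.1 = 0 := by
        rw [res_single, uh_sub_left, uh_smul_left, h.swap_zero haw', h.swap_zero haw, mul_zero,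
          sub_zero]
      have hrw : uh σ (res σ ![w.1] w'.1) w.1 = 0 := uh_res_left (on_single w.2) w'.1 0
      obtain ⟨v, v1, v2, v3⟩ := exists_perp_ne hF h (by omega) (on_pair h a.2 w.2 haw) (by omega)
        hww.2 hww.1 fun i => by fin_cases i <;> assumption
      let v' : One σ (0 + 3 + 1) := ⟨v, v1⟩
      have hav : uh σ a.1 v = 0 := h.swap_zero (v2 0)
      have hxv : uh σ x.1 v = 0 := by rw [hx, uh_smul_left, hav, mul_zero]
      refine Cover.Sq.trans (x := v') ((hadj a v').2 hav) ((hadj v' x).2 (h.swap_zero hxv))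
        (Cover.Sq.of_mid ((hadj w v').2 (h.swap_zero (v2 1))) ((hadj x v').2 hxv))
        (two v' w' hav haw' (flat_of_norm h v1 w'.2 ?_))
      have e : uh σ w'.1 v = σ (uh σ v (res σ ![w.1] w'.1)) := by
        have hwv : uh σ w.1 v = 0 := h.swap_zero (v2 1)
        rw [h.symm, res_single, uh_sub_left, uh_smul_left, hwv, mul_zero, sub_zero]
      rw [e, h.invol, mul_comm]
      exact v3
    · obtain ⟨r, hr0, hr⟩ := exists_normalise hF h fun e => h0 (hflat e)
      have hrp : ∀ u : One σ (0 + 3 + 1), uh σ a.1 u.1 = 0 → uh σ x.1 u.1 = 0 →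
          uh σ (r • res σ ![a.1] x.1) u.1 = 0 := fun u e e' => by
        rw [res_single, uh_smul_left, uh_sub_left, uh_smul_left, e, e', mul_zero, sub_zero, mul_zero]
      refine gen a x w w' (r • res σ ![a.1] x.1) (uh σ x.1 a.1) r⁻¹ hr ?_ ?_ haw (hrp w haw hxw)
        haw' (hrp w' haw' hxw')
      · refine h.swap_zero ?_
        rw [uh_smul_left]
        exact mul_eq_zero_of_right _ (uh_res_left (on_single a.2) x.1 0)
      · rw [inv_smul_smul₀ hr0]; exact hx
  let E4 := Ext.ofBijective (show 0 + 4 ≤ 4 by omega) hbij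
  exact ⟨(MonoidHom.fst _ _).comp E4.φ, fun i hi M => congrArg Prod.fst (E4.block i hi M)⟩

end Sys

end CfsgLib.Phan
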