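import Cfsg.Agent.Lib.Phan.System

/-!
Homomorphisms of four consecutive coordinates compatible with a system, and what they give for the
step.
-/

set_option autoImplicit false

namespace CfsgLib.Phan

open Matrix CfsgLib.Classical CfsgLib.Classical.Unitary CfsgLib.Pres.SU CfsgLib.Pres.SU.Chain

variable {F : Type*} [Field F] [Finite F] {σ : F →+* F} {q N : ℕ} {G : Type*} [Group G]

namespace Sys

variable {h : UFrob σ q} (S : Sys h N G)

/-- Blocks of three coordinates commute with those of two coordinates further on. -/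
def Far : Prop := ∀ i j, i + 3 ≤ j → j + 2 ≤ N → ∀ x y, Commute (S.κ i x) (S.ν j y)

/-- Blocks of three coordinates which do not meet commute. -/
def FarThree : Prop := ∀ i j, i + 3 ≤ j → j + 3 ≤ N → ∀ x y, Commute (S.κ i x) (S.κ j y)

/-- Homomorphisms of four consecutive coordinates. -/
def IsLocal (θ : ℕ → Cfsg.SU 4 F q →* G) : Prop :=
  ∀ a, a + 4 ≤ N → ∀ i (hi : i + 3 ≤ 4) M, θ a (embF h (sh i hi) M) = S.κ (a + i) M

variable {S} {θ : ℕ → Cfsg.SU 4 F q →* G}

/-- Four coordinates in the product. -/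
def L (h : UFrob σ q) (θ : ℕ → Cfsg.SU 4 F q →* G) (a : ℕ) (ha : a + 4 ≤ N) :
    Cfsg.SU 4 F q →* G × Cfsg.SU N F q :=
  (θ a).prod (embF h (sh a ha))

omit [Finite F] in
theorem L_block (hθ : S.IsLocal θ) (a : ℕ) (ha : a + 4 ≤ N) (i : ℕ) (hi : i + 3 ≤ 4)
    (M : Cfsg.SU 3 F q) : L h θ a ha (embF h (sh i hi) M) = S.K (a + i) (by omega) M :=
  Prod.ext (hθ a ha i hi M) (embF_sh_sh h i a hi ha M)

omit [Finite F] in
theorem K_congr {i j : ℕ} (e : i = j) (hi : i + 3 ≤ N) (M : Cfsg.SU 3 F q) :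
    S.K i hi M = S.K j (by omega) M := by subst e; rfl

omit [Finite F] in
theorem W_congr {i j : ℕ} (e : i = j) (hi : i + 2 ≤ N) (M : Cfsg.SU 2 F q) :
    S.W i hi M = S.W j (by omega) M := by subst e; rfl

omit [Finite F] in
theorem L_last (hθ : S.IsLocal θ) (a : ℕ) (ha : a + 4 ≤ N) (M : Cfsg.SU 2 F q) :
    L h θ a ha (embF h (sh 2 (show 2 + 2 ≤ 4 by omega)) M) = S.W (a + 2) (by omega) M := by
  rw [← embF_sh_sh h 1 1 (show 1 + 2 ≤ 3 by omega) (show 1 + 3 ≤ 4 by omega), L_block hθ, S.K_right]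

/-- The first four coordinates. -/
def Ext.four (hF : Nat.card F = q ^ 2) (hθ : S.IsLocal θ) (hN : 0 + 4 ≤ N) : S.Ext 4 hN where
  φ := L h θ 0 hN
  snd_eq g := rfl
  mem g := by
    have := top_of_blocks hF h 4 (by omega) ((S.Z 4).comap (L h θ 0 hN)) fun i hi M => by
      rw [Subgroup.mem_comap, L_block hθ]
      exact S.K_mem _ _ (by omega) M
    exact (this ▸ Subgroup.mem_top g : g ∈ (S.Z 4).comap (L h θ 0 hN))
  block i hi M := (L_block hθ 0 hN i hi M).trans (K_congr (by omega) _ M)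

/-- The generation needed in the step. -/
theorem gen_of_local (hF : Nat.card F = q ^ 2) (hθ : S.IsLocal θ) {s : ℕ}
    (hs : 0 + (s + 3 + 1) ≤ N) (E : S.Ext (s + 3) (by omega)) {t : Cfsg.SU 2 F q}
    (t1 : t.1.1 *ᵥ Pi.single 1 1 = Pi.single 0 1) (M : Cfsg.SU 3 F q) :
    S.K (s + 1) (by omega) M ∈
      Subgroup.closure ((Set.range E.φ) ∪ {S.W (s + 2) (by omega) t}) := by
  have htop := top_four hF h t1
    ((Subgroup.closure ((Set.range E.φ) ∪ {S.W (s + 2) (by omega) t})).comap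
      (L h θ s (show s + 4 ≤ N by omega)))
    (fun M' => by
      rw [Subgroup.mem_comap, L_block hθ]
      exact Subgroup.subset_closure (Or.inl ⟨_, (E.block s (by omega) M').trans
        (K_congr (by omega) _ M')⟩))
    (Subgroup.subset_closure (Or.inr (L_last hθ s _ t)))
  have : embF h (sh 1 (show 1 + 3 ≤ 4 by omega)) M ∈
      (Subgroup.closure ((Set.range E.φ) ∪ {S.W (s + 2) (by omega) t})).comap
      (L h θ s (show s + 4 ≤ N by omega)) := htop ▸ Subgroup.mem_top _
  rwa [Subgroup.mem_comap, L_block hθ] at this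

/-- The commuting needed in the step. -/
theorem comm_of_far (hF : Nat.card F = q ^ 2) (hfar : S.Far) {s : ℕ} (h1 : 1 ≤ s)
    (hs : 0 + (s + 3 + 1) ≤ N) (E : S.Ext (s + 3) (by omega)) (t : Cfsg.SU 2 F q)
    (g : Cfsg.SU (s + 3) F q)
    (hg : g.1.1 *ᵥ Pi.single (Fin.last (s + 2)) 1 = Pi.single (Fin.last (s + 2)) 1) :
    Commute (S.W (s + 2) (by omega) t) (E.φ g) := by
  obtain ⟨g', rfl⟩ := mem_range_init h (show 0 + (s + 2) ≤ s + 2 + 1 by omega) g hg
  let C := (Subgroup.centralizer {S.W (s + 2) (by omega) t}).comap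
    (E.φ.comp (embF h (sh 0 (show 0 + (s + 2) ≤ s + 3 by omega))))
  have hC : C = ⊤ := top_of_blocks hF h (s + 2) (by omega) C fun i hi M => by
    show E.φ (embF h (sh 0 _) (embF h (sh i hi) M)) ∈ Subgroup.centralizer _
    rw [embF_sh_sh, E.block, Subgroup.mem_centralizer_singleton_iff]
    exact Prod.ext (hfar _ (s + 2) (by omega) (by omega) M t)
      (commute_sh h (show 0 + i + 3 ≤ s + 2 by omega) (show 0 + i + 3 ≤ N by omega) _ M t)
  have : g' ∈ C := hC ▸ Subgroup.mem_top g'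
  exact (Subgroup.mem_centralizer_singleton_iff.1 this).symm

end Sys

end CfsgLib.Phan
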