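import Cfsg.Agent.Lib.Phan.Local

/-!
The reference configuration of the step from five to six coordinates over the field with four
elements.
-/

set_option autoImplicit false

namespace CfsgLib.Phan

open Matrix CfsgLib.Classical CfsgLib.Classical.Unitary CfsgLib.Pres.SU CfsgLib.Pres.SU.Chain

variable {F : Type*} [Field F] [Finite F] {σ : F →+* F} {q N : ℕ} {G : Type*} [Group G]

omit [Finite F] in
/-- Rescaling a standard vector. -/
theorem smul_single_inv {n : ℕ} (j : Fin n) {e : F} (he : e ≠ 0) :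
    e • (Pi.single j e⁻¹ : Fin n → F) = Pi.single j 1 := by
  rw [← Pi.single_smul, smul_eq_mul, mul_inv_cancel₀ he]

omit [Finite F] in
/-- A vector of three coordinates. -/
theorem cons_three (a b c : F) :
    (![a, b, c] : Fin 3 → F) = Pi.single 0 a + (Pi.single 1 b + Pi.single 2 c) := by
  funext i
  fin_cases i <;> simp

namespace Sys

variable {h : UFrob σ q} {S : Sys h N G} {θ : ℕ → Cfsg.SU 4 F q →* G}

set_option maxHeartbeats 800000 in
/-- The configuration. -/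
theorem exists_ref (hF : Nat.card F = q ^ 2) (hq : q = 2) (hθ : S.IsLocal θ) (hfar : S.FarThree)
    (hs : 0 + (2 + 3 + 1) ≤ N) (E : S.Ext (2 + 3) (by omega)) {t : Cfsg.SU 2 F q}
    (t1 : t.1.1 *ᵥ Pi.single 1 1 = Pi.single 0 1) {T : S.Z (2 + 3 + 1)}
    {d c : One σ (2 + 3 + 1)} (hT : T.1 = S.W (2 + 2) (by omega) t)
    (hd : d.1 = Pi.single (Fin.last (2 + 3)) 1)
    (D : StepData σ (S.proj (2 + 3 + 1) hs) E.sub T d c)
    (hN6 : 2 + 3 + 1 = 6) (δ : F) (hδ : δ * σ δ = 1) :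
    ∃ x1 ∈ E.sub, ∃ x2 ∈ E.sub, ∃ x1' ∈ E.sub, ∃ x2' ∈ E.sub, ∃ g : Cfsg.SU (2 + 3 + 1) F q,
      IsRef σ hN6 δ d.1 ((S.proj (2 + 3 + 1) hs (x1 * T * x2 * T)).1.1 *ᵥ d.1)
        ((S.proj (2 + 3 + 1) hs (x1 * T)).1.1 *ᵥ d.1)
        ((S.proj (2 + 3 + 1) hs (x1' * T)).1.1 *ᵥ d.1) g ∧
      (x1' * T * x2' * T)⁻¹ * (x1 * T * x2 * T) ∈ E.sub := by
  set π := S.proj (2 + 3 + 1) hs with hπ
  have h2F : (2 : F) = 0 := two_eq_zero_of_q_two hF hq
  have hδ0 : δ ≠ 0 := fun e => by simp [e] at hδ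
  -- the frame
  have on1 : uh σ (Pi.single (5 : Fin 6) δ⁻¹) (Pi.single (5 : Fin 6) δ⁻¹) = 1 := by
    simp [uh_single_left]
    rw [← mul_inv, hδ, inv_one]
  have hon : ON σ (![Pi.single (5 : Fin 6) δ⁻¹, Pi.single 2 1, Pi.single 4 1, Pi.single 1 1,
      Pi.single 0 1] : Fin 5 → Fin 6 → F) := by
    intro i j
    fin_cases i <;> fin_cases j <;> first | exact on1 | simp [uh_single_left]
  have hstd : ON σ (![Pi.single (0 : Fin 6) 1, Pi.single 1 1, Pi.single 2 1, Pi.single 4 1,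
      Pi.single 5 1] : Fin 5 → Fin 6 → F) := by
    intro i j
    fin_cases i <;> fin_cases j <;> simp [uh_single_left]
  obtain ⟨g, hg⟩ := exists_su_map hF h hstd hon (by omega)
  have g0 : g.1.1 *ᵥ Pi.single 0 1 = Pi.single (5 : Fin 6) δ⁻¹ := hg 0
  have g1 : g.1.1 *ᵥ Pi.single 1 1 = Pi.single (2 : Fin 6) 1 := hg 1
  have g2 : g.1.1 *ᵥ Pi.single 2 1 = Pi.single (4 : Fin 6) 1 := hg 2
  have g4 : g.1.1 *ᵥ Pi.single 4 1 = Pi.single (1 : Fin 6) 1 := hg 3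
  have g5 : g.1.1 *ᵥ Pi.single 5 1 = Pi.single (0 : Fin 6) 1 := hg 4
  obtain ⟨p, hp⟩ : ∃ p, p = (g.1.1 *ᵥ Pi.single (3 : Fin 6) 1) 3 := ⟨_, rfl⟩
  have g3 : g.1.1 *ᵥ Pi.single 3 1 = Pi.single (3 : Fin 6) p := by
    have hz : ∀ (i j : Fin 6) (e : F), e ≠ 0 → i ≠ 3 → g.1.1 *ᵥ Pi.single i 1 = Pi.single j e →
        (g.1.1 *ᵥ Pi.single (3 : Fin 6) 1) j = 0 := fun i j e he hi hij => by
      have := su_uh h g (Pi.single (3 : Fin 6) 1) (Pi.single i 1)
      rw [hij, uh_single_right, uh_single_right, Pi.single_eq_of_ne hi, zero_mul] at this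
      simpa [he] using this
    funext j
    fin_cases j
    · exact hz 5 0 1 one_ne_zero (by decide) g5
    · exact hz 4 1 1 one_ne_zero (by decide) g4
    · exact hz 1 2 1 one_ne_zero (by decide) g1
    · simp [hp]
    · exact hz 2 4 1 one_ne_zero (by decide) g2
    · exact hz 0 5 δ⁻¹ (inv_ne_zero hδ0) (by decide) g0
  have hpn : p * σ p = 1 := by
    have := su_uh h g (Pi.single (3 : Fin 6) 1) (Pi.single 3 1)
    rw [g3] at this
    simpa [uh_single_left] using this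
  -- the two elements of disjoint blocks
  have hou : ON σ (![![p, 1, 1]] : Fin 1 → Fin 3 → F) := on_single (by
    simp [uh, dotProduct, Fin.sum_univ_three]; linear_combination hpn + h2F)
  have hov : ON σ (![![1, 1, 1]] : Fin 1 → Fin 3 → F) := on_single (by
    simp [uh, dotProduct, Fin.sum_univ_three]; linear_combination h2F)
  have h2s : ON σ (![Pi.single 2 1] : Fin 1 → Fin 3 → F) :=
    on_single (by simp [uh_single_left])
  obtain ⟨u3, hu3⟩ := exists_su_map hF h h2s hou (by omega)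
  obtain ⟨v3, hv3⟩ := exists_su_map hF h h2s hov (by omega)
  have K3m : ∀ M, S.K 3 (by omega) M ∈ S.Z (2 + 3 + 1) := fun M => S.K_mem 3 _ le_rfl M
  have Km : ∀ i (hi : i + 3 ≤ 2 + 3) M, S.K i (by omega) M ∈ S.Z (2 + 3 + 1) :=
    fun i hi M => S.K_mem i _ (by omega) M
  let u : S.Z (2 + 3 + 1) := ⟨_, K3m u3⟩
  let v : S.Z (2 + 3 + 1) := ⟨_, Km 0 (by omega) v3⟩
  let s2 : S.Z (2 + 3 + 1) := ⟨_, Km 2 le_rfl (embF h (sh 0 (show 0 + 2 ≤ 3 by omega)) t)⟩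
  let s3 : S.Z (2 + 3 + 1) := ⟨_, Km 2 le_rfl (embF h (sh 1 (show 1 + 2 ≤ 3 by omega)) t)⟩
  have hv : v ∈ E.sub := E.mem_sub (E.block 0 (by omega) v3)
  have hs2 : s2 ∈ E.sub := E.mem_sub (E.block 2 le_rfl _)
  have hs3 : s3 ∈ E.sub := E.mem_sub (E.block 2 le_rfl _)
  have huv : Commute u v := (Subtype.ext (Prod.ext (hfar 0 3 le_rfl (by omega) v3 u3)
    (commute_sh h le_rfl (by omega) (by omega) v3 u3)) : v * u = u * v).symm
  -- the last four coordinates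
  let A4 := embF h (sh 0 (show 0 + 2 ≤ 4 by omega)) t * embF h (sh 1 (show 1 + 2 ≤ 4 by omega)) t *
    embF h (sh 2 (show 2 + 2 ≤ 4 by omega)) t
  have eA : A4.1.1 *ᵥ Pi.single 3 1 = Pi.single 0 1 := by
    rw [su_mul_mulVec, su_mul_mulVec,
      show (embF h (sh 2 (show 2 + 2 ≤ 4 by omega)) t).1.1 *ᵥ Pi.single 3 1 = Pi.single 2 1 from
        sh_single h 2 (show 2 + 2 ≤ 4 by omega) t (a := 1) (b := 0) t1,
      show (embF h (sh 1 (show 1 + 2 ≤ 4 by omega)) t).1.1 *ᵥ Pi.single 2 1 = Pi.single 1 1 from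
        sh_single h 1 (show 1 + 2 ≤ 4 by omega) t (a := 1) (b := 0) t1,
      show (embF h (sh 0 (show 0 + 2 ≤ 4 by omega)) t).1.1 *ᵥ Pi.single 1 1 = Pi.single 0 1 from
        sh_single h 0 (show 0 + 2 ≤ 4 by omega) t (a := 1) (b := 0) t1]
  have hL : ∀ i (hi : i + 2 ≤ 3) M, L h θ 2 (show 2 + 4 ≤ N by omega)
      (embF h (sh i (show i + 2 ≤ 4 by omega)) M) =
      S.K 2 (by omega) (embF h (sh i hi) M) := fun i hi M => by
    rw [← L_block hθ 2 (show 2 + 4 ≤ N by omega) 0 (by omega) (embF h (sh i hi) M), embF_sh_sh]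
    exact congrArg _ (embF_congr h (sh_congr (by omega) _) M)
  have hLA : L h θ 2 (show 2 + 4 ≤ N by omega) A4 = (s2 * s3 * T : S.Z (2 + 3 + 1)).1 := by
    show _ = s2.1 * s3.1 * T.1
    rw [map_mul, map_mul, L_last hθ, hL 0 (by omega), hL 1 (by omega), hT]
  obtain ⟨M4, hM4⟩ := mem_range_init h (show 0 + 3 ≤ 3 + 1 by omega)
    (A4⁻¹ * embF h (sh 1 (show 1 + 3 ≤ 4 by omega)) u3 * A4) (by
      show _ *ᵥ Pi.single (3 : Fin 4) 1 = Pi.single (3 : Fin 4) 1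
      rw [su_mul_mulVec, eA, su_mul_mulVec, sh_fix h 1 _ u3 (Or.inl (by simp)), ← eA, su_inv_mulVec])
  set x1 := s2 * s3 with hx1
  have hh : (x1 * T)⁻¹ * u * (x1 * T) ∈ E.sub := by
    refine E.mem_sub (g := embF h (sh 2 (show 2 + 3 ≤ 2 + 3 by omega)) M4) ?_
    rw [E.block]
    show S.K 2 _ M4 = ((x1 * T : S.Z (2 + 3 + 1)).1)⁻¹ * u.1 * (x1 * T : S.Z (2 + 3 + 1)).1
    rw [← hLA, show u.1 = S.K 3 (by omega) u3 from rfl,
      ← L_block hθ 2 (show 2 + 4 ≤ N by omega) 1 (by omega) u3, ← map_inv, ← map_mul, ← map_mul,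
      ← hM4, L_block hθ]
  obtain ⟨b, hb, -, htbt⟩ := D.back
  have hx1m : x1 ∈ E.sub := mul_mem hs2 hs3
  refine ⟨x1, hx1m, _, mul_mem hh hb, v * x1, mul_mem hv hx1m, _, mul_mem hh hb, g, ?_, ?_⟩
  · have hd5 : d.1 = Pi.single (5 : Fin 6) 1 := hd
    have eπ : ∀ (i : ℕ) (hi : i + 3 ≤ 2 + 3 + 1) (M : Cfsg.SU 3 F q) (z : S.Z (2 + 3 + 1)),
        z.1 = S.K i (by omega) M → π z = embF h (sh i hi) M := fun i hi M z e =>
      S.proj_eq hs z _ (by
        rw [e, K_apply, embF_sh_sh]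
        exact embF_congr h (sh_congr (by omega) _) M)
    have hw : (π (x1 * T)).1.1 *ᵥ d.1 = Pi.single (2 : Fin 6) 1 := by
      have : π (x1 * T) = embF h (sh 2 (show 2 + 4 ≤ 2 + 3 + 1 by omega)) A4 :=
        S.proj_eq hs _ _ (by
          rw [← hLA, embF_sh_sh]
          exact embF_congr h (sh_congr (by omega) _) A4)
      rw [this, hd5]
      exact sh_single h 2 (show 2 + 4 ≤ 2 + 3 + 1 by omega) A4 (a := 3) (b := 0) eA
    have hsg : ∀ (j : Fin 6) (e : F), g.1.1 *ᵥ Pi.single j e = e • (g.1.1 *ᵥ Pi.single j 1) :=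
      fun j e => su_single g j e
    refine ⟨?_, ?_, ?_, ?_⟩
    · show d.1 = g.1.1 *ᵥ Pi.single (0 : Fin 6) δ
      rw [hd5, hsg, g0]
      funext j
      rcases eq_or_ne j 5 with rfl | hj <;> simp [*]
    · rw [hw]; exact g1.symm
    · show (π (x1 * T * ((x1 * T)⁻¹ * u * (x1 * T) * b) * T)).1.1 *ᵥ d.1 = _
      rw [show x1 * T * ((x1 * T)⁻¹ * u * (x1 * T) * b) * T = u * x1 * (T * b * T) by group,
        map_mul, map_mul, su_mul_mulVec, su_mul_mulVec, D.fix _ htbt, D.fix _ hx1m,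
        eπ 3 le_rfl u3 u rfl, hd5]
      show (embF h (sh 3 _) u3).1.1 *ᵥ Pi.single (sh 3 (show 3 + 3 ≤ 6 by omega) (2 : Fin 3)) 1 =
        g.1.1 *ᵥ (Pi.single (0 : Fin 6) δ + (Pi.single (2 : Fin 6) 1 + Pi.single (3 : Fin 6) 1))
      rw [embF_single, show u3.1.1 *ᵥ Pi.single 2 1 = ![p, 1, 1] from hu3 0, cons_three,
        mulVec_add, mulVec_add, mulVec_add, mulVec_add, colMat_single, colMat_single, colMat_single,
        hsg, g0, g2, g3, smul_single_inv _ hδ0]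
      show (Pi.single (3 : Fin 6) p : Fin 6 → F) +
        (Pi.single (4 : Fin 6) 1 + Pi.single (5 : Fin 6) 1) = _
      abel
    · rw [mul_assoc v x1 T, map_mul, su_mul_mulVec, hw, eπ 0 (by omega) v3 v rfl]
      show (embF h (sh 0 _) v3).1.1 *ᵥ Pi.single (sh 0 (show 0 + 3 ≤ 6 by omega) (2 : Fin 3)) 1 =
        g.1.1 *ᵥ (Pi.single (1 : Fin 6) 1 + (Pi.single (4 : Fin 6) 1 + Pi.single (5 : Fin 6) 1))
      rw [embF_single, show v3.1.1 *ᵥ Pi.single 2 1 = ![1, 1, 1] from hv3 0, cons_three,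
        mulVec_add, mulVec_add, mulVec_add, mulVec_add, colMat_single, colMat_single, colMat_single,
        g1, g4, g5]
      show (Pi.single (0 : Fin 6) 1 : Fin 6 → F) +
        (Pi.single (1 : Fin 6) 1 + Pi.single (2 : Fin 6) 1) = _
      abel
  · have e : v * x1 * T * ((x1 * T)⁻¹ * u * (x1 * T) * b) * T = u * v * x1 * (T * b * T) := by
      rw [huv.eq]; group
    rw [e, show x1 * T * ((x1 * T)⁻¹ * u * (x1 * T) * b) * T = u * x1 * (T * b * T) by group,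
      show (u * v * x1 * (T * b * T))⁻¹ * (u * x1 * (T * b * T)) =
        (T * b * T)⁻¹ * (x1⁻¹ * v⁻¹ * x1) * (T * b * T) by group]
    exact mul_mem (mul_mem (inv_mem htbt) (mul_mem (mul_mem (inv_mem hx1m) (inv_mem hv)) hx1m)) htbt

end Sys

end CfsgLib.Phan
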