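import Cfsg.Agent.Lib.Phan.Four
import Cfsg.Agent.Lib.Phan.Ref

/-!
A system is a quotient of the special unitary group.
-/

set_option autoImplicit false

namespace CfsgLib.Phan

open Matrix CfsgLib.Classical CfsgLib.Classical.Unitary CfsgLib.Pres.SU CfsgLib.Pres.SU.Chain

variable {F : Type*} [Field F] [Finite F] {σ : F →+* F} {q N : ℕ} {G : Type*} [Group G]

namespace Sys

variable {h : UFrob σ q} {S : Sys h N G} {θ : ℕ → Cfsg.SU 4 F q →* G}

/-- The first coordinates form the special unitary group. -/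
theorem exists_ext (hF : Nat.card F = q ^ 2) (hθ : S.IsLocal θ) (hfar : S.Far)
    (hfar3 : q = 2 → S.FarThree) :
    ∀ s (hs : 0 + (s + 4) ≤ N), Nonempty (S.Ext (s + 4) hs) := by
  intro s
  induction s with
  | zero => exact fun hs => ⟨Ext.four hF hθ hs⟩
  | succ s ih =>
    intro hs
    obtain ⟨E⟩ := ih (by omega)
    obtain ⟨t, t1, t0⟩ := exists_swap h
    let E' : S.Ext (s + 1 + 3) (by omega) := E
    have hs' : 0 + (s + 1 + 3 + 1) ≤ N := by omega
    obtain ⟨T, d, c, hT, hd, -, D⟩ := stepData hs' E' t1 t0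
      (gen_of_local hF hθ hs' E' t1) fun g hg => comm_of_far hF hfar (by omega) hs' E' t g hg
    refine ⟨Ext.ofBijective hs' ?_⟩
    refine D.bijective hF h (by omega) fun hq hN6 δ hδ => ?_
    obtain rfl : s = 1 := by omega
    exact exists_ref hF hq hθ (hfar3 hq) hs' E' t1 hT hd D hN6 δ hδ

/-- The homomorphism. -/
theorem exists_hom (hF : Nat.card F = q ^ 2) (hN : 4 ≤ N) (hθ : S.IsLocal θ) (hfar : S.Far)
    (hfar3 : q = 2 → S.FarThree) :
    ∃ f : Cfsg.SU N F q →* G, ∀ i (hi : i + 3 ≤ N) M, f (embF h (sh i hi) M) = S.κ i M := by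
  obtain ⟨s, rfl⟩ : ∃ s, N = s + 4 := ⟨N - 4, by omega⟩
  obtain ⟨E⟩ := exists_ext hF hθ hfar hfar3 s (by omega)
  exact ⟨(MonoidHom.fst _ _).comp E.φ, fun i hi M => congrArg Prod.fst (E.block i hi M)⟩

/-- The system moved along. -/
def shift (S : Sys h N G) (a M : ℕ) (ha : a + M ≤ N) : Sys h M G where
  ν i := S.ν (a + i)
  κ i := S.κ (a + i)
  κ_left i hi x := S.κ_left (a + i) (by omega) x
  κ_right i hi x := S.κ_right (a + i) (by omega) x
  comm i j hij hj := S.comm (a + i) (a + j) (by omega) (by omega)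

/-- Commuting from the planes. -/
theorem far_of_planes (S : Sys h N G) (hF : Nat.card F = q ^ 2) (hq : 3 ≤ q) : S.Far := by
  intro i j hij hj x y
  have htop := top_of_planes hF h hq ((Subgroup.centralizer {S.ν j y}).comap (S.κ i))
    (fun M => by
      rw [embF_congr h f01_eq, Subgroup.mem_comap, S.κ_left i (by omega),
        Subgroup.mem_centralizer_singleton_iff]
      exact S.comm i j (by omega) hj M y)
    (fun M => by
      rw [embF_congr h f12_eq, Subgroup.mem_comap, S.κ_right i (by omega),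
        Subgroup.mem_centralizer_singleton_iff]
      exact S.comm (i + 1) j (by omega) hj M y)
  have : S.κ i x ∈ Subgroup.centralizer {S.ν j y} :=
    (htop ▸ Subgroup.mem_top x : x ∈ (Subgroup.centralizer {S.ν j y}).comap (S.κ i))
  exact Subgroup.mem_centralizer_singleton_iff.1 this

/-- Over fields with at least sixteen elements the local homomorphisms exist. -/
theorem exists_local (S : Sys h N G) (hF : Nat.card F = q ^ 2) (hq : 4 ≤ q) :
    ∃ θ : ℕ → Cfsg.SU 4 F q →* G, S.IsLocal θ := by
  classical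
  refine ⟨fun a => if ha : a + 4 ≤ N then ((S.shift a 4 ha).exists_four hF hq).choose else 1,
    fun a ha i hi M => ?_⟩
  simp only [dif_pos ha]
  exact ((S.shift a 4 ha).exists_four hF hq).choose_spec i hi M

/-- The homomorphism over fields with at least sixteen elements. -/
theorem exists_hom_of_four_le (S : Sys h N G) (hF : Nat.card F = q ^ 2) (hq : 4 ≤ q) (hN : 4 ≤ N) :
    ∃ f : Cfsg.SU N F q →* G, ∀ i (hi : i + 3 ≤ N) M, f (embF h (sh i hi) M) = S.κ i M := by
  obtain ⟨θ, hθ⟩ := S.exists_local hF hq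
  exact exists_hom hF hN hθ (S.far_of_planes hF (by omega)) fun e => absurd e (by omega)

end Sys

end CfsgLib.Phan
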