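import Cfsg.Agent.Lib.Classical.UnitarySimple
import Cfsg.Agent.Lib.Classical.UnitarySU

/-!
A nontrivial image of `SU 4` has scalar kernel.
-/

set_option autoImplicit false

namespace CfsgLib.Phan

open Matrix CfsgLib.Classical CfsgLib.Classical.Unitary

variable {F : Type*} [Field F] [Finite F] {σ : F →+* F} {q : ℕ} {G : Type*} [Group G]

/-- A hom onto a subgroup which is not trivial, composed with the inclusion. -/
theorem exists_proj (hF : Nat.card F = q ^ 2) (h : UFrob σ q) {W : Subgroup G}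
    (g : Cfsg.SU 4 F q →* W) (hg : Function.Surjective g) {x : G} (hx : x ∈ W) (hx1 : x ≠ 1) :
    ∃ π : Cfsg.SU 4 F q →* G, π.range = W ∧
      ∀ y, π y = 1 → ∃ l : F, ∀ v, y.1.1 *ᵥ v = l • v := by
  refine ⟨W.subtype.comp g, ?_, fun y hy => ?_⟩
  · rw [MonoidHom.range_comp, MonoidHom.range_eq_top.2 hg, ← MonoidHom.range_eq_map,
      Subgroup.range_subtype]
  have hy' : y ∈ g.ker := MonoidHom.mem_ker.2 (Subtype.ext hy)
  rcases normal_su_le_center_or_eq_top hF h (by norm_num : 3 ≤ 4) (fun e => absurd e (by norm_num))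
    g.ker with hc | ht
  · obtain ⟨l, -, -, hl⟩ := SU_center_scalar hF (by norm_num : 2 ≤ 4) (hc hy')
    exact ⟨l, fun v => by rw [hl]; ext i; simp [Matrix.mulVec_diagonal]⟩
  · refine absurd ?_ hx1
    obtain ⟨z, hz⟩ := hg ⟨x, hx⟩
    have hzk : g z = 1 := MonoidHom.mem_ker.1 (ht ▸ Subgroup.mem_top z)
    exact congrArg Subtype.val (hz.symm.trans hzk)

end CfsgLib.Phan
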