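import Cfsg.Agent.Lib.Phan.Align
import Cfsg.Agent.Lib.Phan.Local

/-!
A homomorphism of `SU 4` carrying the three blocks to the subgroups of a system can be adjusted to
agree with the system.
-/

set_option autoImplicit false

namespace CfsgLib.Phan

open Matrix CfsgLib.Classical CfsgLib.Classical.Unitary CfsgLib.Pres.SU CfsgLib.Pres.SU.Chain

variable {F : Type*} [Field F] [Finite F] {σ : F →+* F} {q n : ℕ} {G : Type*} [Group G]
  {h : UFrob σ q}

omit [Finite F] in
/-- What normalises the second subgroup inside the first. -/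
theorem IsChart.normal_diag' {κ : Cfsg.SU 3 F q →* G} {A B : Subgroup G} (C : IsChart h κ A B)
    {E : Cfsg.SU 2 F q} (hE : ∀ b ∈ B, κ (embF h (sh 0 (show 0 + 2 ≤ 3 by omega)) E) * b *
      (κ (embF h (sh 0 (show 0 + 2 ≤ 3 by omega)) E))⁻¹ ∈ B) : E.1.1 1 0 = 0 := by
  obtain ⟨t, t1, t0⟩ := exists_swap h
  set g := embF h (sh 0 (show 0 + 2 ≤ 3 by omega)) E
  set S := embF h (sh 1 (show 1 + 2 ≤ 3 by omega)) t
  have hmem := hE (κ S) (C.right.le ⟨t, rfl⟩)
  rw [← map_inv, ← map_mul, ← map_mul, ← C.right] at hmem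
  obtain ⟨M', hM'⟩ := hmem
  obtain ⟨l, hl⟩ := C.ker ((embF h (sh 1 (show 1 + 2 ≤ 3 by omega)) M')⁻¹ * (g * S * g⁻¹)) (by
    rw [map_mul, map_inv, inv_mul_eq_one]
    exact hM')
  obtain ⟨v, hv⟩ : ∃ v, v = (g⁻¹).1.1 *ᵥ Pi.single 0 1 := ⟨_, rfl⟩
  have e0 : S.1.1 *ᵥ v = l • v := by
    have := hl (Pi.single 0 1)
    rw [su_mul_mulVec, su_mul_mulVec, su_mul_mulVec, ← hv] at this
    have := congrArg (fun w => (embF h (sh 1 (show 1 + 2 ≤ 3 by omega)) M').1.1 *ᵥ w) this
    simp only [su_mulVec_inv, mulVec_smul, sh_fix h 1 (show 1 + 2 ≤ 3 by omega) M'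
      (j := (0 : Fin 3)) (Or.inl (by simp))] at this
    have := congrArg (fun w => (g⁻¹).1.1 *ᵥ w) this
    simpa only [su_inv_mulVec, mulVec_smul, ← hv] using this
  have hv2 : v 2 = 0 := by
    rw [hv, show (g⁻¹) = embF h (sh 0 (show 0 + 2 ≤ 3 by omega)) E⁻¹ from (map_inv _ _).symm]
    rw [embF_off h (sh 0 _) _ _ (sh_ne (Or.inr (by simp)))]
    simp
  have hv1 : v 1 = 0 := by
    have e1 : (S.1.1 *ᵥ v) 2 = -(v 1) := by
      have := embF_on h (sh 1 (show 1 + 2 ≤ 3 by omega)) t v 1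
      refine this.trans ?_
      rw [← Finset.univ_sum_single (v ∘ _), Fin.sum_univ_two, mulVec_add, su_single, t0, su_single, t1]
      simp
      rfl
    rw [e0, Pi.smul_apply, hv2, smul_zero] at e1
    simpa using e1.symm
  have := su_uh h g (Pi.single 1 1) ((g⁻¹).1.1 *ᵥ Pi.single 0 1)
  rw [su_mulVec_inv, ← hv, uh_single_left, hv1, map_zero, mul_zero, uh_single_right, map_one,
    mul_one] at this
  have e := (embF_on h (sh 0 (show 0 + 2 ≤ 3 by omega)) E (Pi.single 1 1) 0).symm.trans this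
  have es : (Pi.single 1 1 : Fin 3 → F) ∘ sh 0 (show 0 + 2 ≤ 3 by omega) = Pi.single 1 1 := by
    funext i
    fin_cases i <;> simp [Pi.single_apply, Fin.ext_iff]
  rw [es, mulVec_single_one] at e
  obtain ⟨-, e01⟩ := su2_entries h E
  rw [show E.1.1 0 1 = 0 from e, eq_comm, neg_eq_zero, map_eq_zero] at e01
  exact e01

omit [Finite F] in
/-- Diagonal elements normalise the blocks next to them. -/
theorem exists_conj_sh (D : Cfsg.SU 2 F q) (hD : D.1.1 1 0 = 0) (i j : ℕ) (hi : i + 2 ≤ n)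
    (hj : j + 2 ≤ n) (_hij : j = i + 1 ∨ i = j + 1) (M : Cfsg.SU 2 F q) :
    ∃ M', embF h (sh j hj) M' = embF h (sh i hi) D * embF h (sh j hj) M * (embF h (sh i hi) D)⁻¹ := by
  refine mem_range_sh h j hj _ fun l hl => ?_
  obtain ⟨e11, e01⟩ := su2_entries h D⁻¹
  obtain ⟨d11, d01⟩ := su2_entries h D
  have hDi : (D⁻¹).1.1 1 0 = 0 := by
    have hd00 : D.1.1 0 0 ≠ 0 := fun e => by
      have := su2_norm h D; simp [e, hD] at this
    have := congrFun (congrFun (congrArg (fun g : Cfsg.SU 2 F q => g.1.1) (inv_mul_cancel D)) 1) 0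
    change ((D⁻¹).1.1 * D.1.1) 1 0 = (1 : Matrix (Fin 2) (Fin 2) F) 1 0 at this
    simpa [Matrix.mul_apply, Fin.sum_univ_two, hD, hd00] using this
  rw [hDi, map_zero, neg_zero] at e01
  have hv : ∃ s : F, ((embF h (sh i hi) D)⁻¹).1.1 *ᵥ Pi.single l 1 = Pi.single l s := by
    by_cases hl' : l.val < i ∨ i + 2 ≤ l.val
    · exact ⟨1, by rw [← map_inv]; exact sh_fix h i hi D⁻¹ hl' 1⟩
    push Not at hl'
    obtain ⟨a, ha⟩ : ∃ a : Fin 2, sh i hi a = l :=
      ⟨⟨l.val - i, by omega⟩, Fin.ext (by simp; omega)⟩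
    refine ⟨(D⁻¹).1.1 a a, ?_⟩
    rw [← map_inv, ← ha]
    refine sh_single h i hi D⁻¹ ?_
    generalize (D⁻¹).1.1 = E' at e01 hDi ⊢
    funext b
    fin_cases a <;> fin_cases b <;> simp [e01, hDi, Matrix.mulVec, dotProduct, Fin.sum_univ_two]
  obtain ⟨s, hs⟩ := hv
  rw [su_mul_mulVec, su_mul_mulVec, hs, sh_fix h j hj M (by omega) s, ← hs, su_mulVec_inv]

omit [Finite F] in
/-- The action of a diagonal element on the block before it. -/
theorem conj_sh_twist {x : F} (hx : x * σ x = 1) {X : Cfsg.SU 2 F q} (hX : X.1.1 = !![x, 0; 0, σ x])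
    (i : ℕ) (hi : i + 3 ≤ n) (M : Cfsg.SU 2 F q)
    (hd : ∀ a, (![1, x] : Fin 2 → F) a * σ (![1, x] a) = 1) :
    embF h (sh (i + 1) (show i + 1 + 2 ≤ n by omega)) X * embF h (sh i (show i + 2 ≤ n by omega)) M *
      (embF h (sh (i + 1) (show i + 1 + 2 ≤ n by omega)) X)⁻¹ =
      embF h (sh i (show i + 2 ≤ n by omega)) (twistHom h ![1, x] hd (RingEquiv.refl F) M) := by
  have hd3 : ∀ a, (![1, x, σ x] : Fin 3 → F) a * σ (![1, x, σ x] a) = 1 := fun a => by
    fin_cases a <;> simp [hx, h.invol, mul_comm]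
  set s := embF h (sh 1 (show 1 + 2 ≤ 3 by omega)) X
  have key : ∀ g : Cfsg.SU 3 F q,
      s * g * s⁻¹ = twistHom h ![1, x, σ x] hd3 (RingEquiv.refl F) g := by
    intro g
    refine mul_inv_eq_iff_eq_mul.2 (Subtype.ext (Subtype.ext (Matrix.ext_iff_mulVec.2 fun v => ?_)))
    show (s * g).1.1 *ᵥ v = (_ * s : Cfsg.SU 3 F q).1.1 *ᵥ v
    rw [su_mul_mulVec, su_mul_mulVec]
    have hs : ∀ w, s.1.1 *ᵥ w = fun j => ![1, x, σ x] j * w j := fun w => by
      funext j
      fin_cases j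
      · simpa using embF_off h (sh 1 (show 1 + 2 ≤ 3 by omega)) X w (j := 0) (sh_ne (Or.inl (by simp)))
      · refine (embF_on h (sh 1 (show 1 + 2 ≤ 3 by omega)) X w 0).trans ?_
        simp [hX, Matrix.mulVec, dotProduct, Fin.sum_univ_two]
        exact Or.inl rfl
      · refine (embF_on h (sh 1 (show 1 + 2 ≤ 3 by omega)) X w 1).trans ?_
        simp [hX, Matrix.mulVec, dotProduct, Fin.sum_univ_two]
        exact Or.inl rfl
    funext j
    rw [twistHom_mulVec, hs, hs]
    simp only [RingEquiv.refl_apply]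
    congr 1
    refine congrFun (congrArg (fun w => g.1.1 *ᵥ w) (funext fun a => ?_)) j
    rw [← mul_assoc, mul_comm (σ _), hd3, one_mul]
    rfl
  have h1 := congrArg (embF h (sh i (show i + 3 ≤ n from hi)))
    (key (embF h (sh 0 (show 0 + 2 ≤ 3 by omega)) M))
  rw [twist_embF, map_mul, map_mul, map_inv, embF_sh_sh, embF_sh_sh, embF_sh_sh] at h1
  have i0 : sh 0 (show 0 + 2 ≤ 3 by omega) (0 : Fin 2) = (0 : Fin 3) := rfl
  have i1 : sh 0 (show 0 + 2 ≤ 3 by omega) (1 : Fin 2) = (1 : Fin 3) := rfl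
  refine h1.trans ((congrArg _ (su2_ext h ?_ ?_)).trans (embF_congr h (sh_congr (by omega) _) _))
    <;> simp [twistHom_entry, i0, i1]

/-- A field automorphism fixing the elements of norm one fixes everything. -/
theorem eq_refl_of_norm_one (hF : Nat.card F = q ^ 2) (h : UFrob σ q) (τ : F ≃+* F)
    (hτ : ∀ x, x * σ x = 1 → τ x = x) : τ = RingEquiv.refl F := by
  classical
  obtain ⟨x, hx, hx1⟩ := exists_normOne_sq_ne_one hF
  replace hx : x * σ x = 1 := by rw [h.pow, ← pow_succ']; exact hx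
  -- the fixed field has more than `q` elements
  let L := (τ : F →+* F).eqLocusField (RingHom.id F)
  have := Fintype.ofFinite F
  suffices hL : ∀ y, y ∈ L by exact RingEquiv.ext fun y => hL y
  by_contra hc
  push Not at hc
  obtain ⟨y, hy⟩ := hc
  have hle : Nat.card (normOne F q) + 1 ≤ Nat.card L := by
    rw [← Finite.card_option]
    refine Nat.card_le_card_of_injective
      (fun o : Option (normOne F q) => o.elim (0 : L) fun u => ⟨(u : Fˣ), ?_⟩) ?_
    · refine hτ _ ?_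
      rw [h.pow, ← pow_succ']
      exact congrArg Units.val (MonoidHom.mem_ker.1 u.2)
    · intro a b e
      rcases a with _ | a <;> rcases b with _ | b <;> simp at e
      · rfl
      · exact absurd e (Ne.symm (fun e' => (b : Fˣ).ne_zero (by simpa using congrArg Subtype.val e')))
      · exact absurd e (fun e' => (a : Fˣ).ne_zero (by simpa using congrArg Subtype.val e'))
      · exact congrArg some (Subtype.ext (Units.ext (congrArg Subtype.val e)))
  rw [card_normOne hF] at hle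
  have hmul := Module.natCard_eq_pow_finrank (K := L) (V := F)
  rw [hF] at hmul
  have hfr : 2 ≤ Module.finrank L F := by
    by_contra hlt
    have h1 : Module.finrank L F = 1 := by
      have := Module.finrank_pos (R := L) (M := F); omega
    obtain ⟨c, hc⟩ := (finrank_eq_one_iff_of_nonzero' (1 : F) one_ne_zero).1 h1 y
    exact hy (by rw [← hc, Subfield.smul_def]; simpa using c.2)
  have hlt : q ^ 2 < (Nat.card L) ^ 2 := Nat.pow_lt_pow_left (by omega) two_ne_zero
  have : (Nat.card L) ^ 2 ≤ (Nat.card L) ^ Module.finrank L F :=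
    Nat.pow_le_pow_right (by omega) hfr
  omega

omit [Finite F] in
/-- Three consecutive coordinates give a chart. -/
theorem isChart_comp (f : Cfsg.SU n F q →* G)
    (hk : ∀ g, f g = 1 → ∃ l : F, ∀ x, g.1.1 *ᵥ x = l • x) (a : ℕ) (ha : a + 3 ≤ n)
    {A B : Subgroup G} (hA : (f.comp (embF h (sh a (show a + 2 ≤ n by omega)))).range = A)
    (hB : (f.comp (embF h (sh (a + 1) (show a + 1 + 2 ≤ n by omega)))).range = B) :
    IsChart h (f.comp (embF h (sh a ha))) A B := by
  refine ⟨?_, ?_, fun g hg => ?_⟩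
  · rw [← hA]
    refine congrArg MonoidHom.range (MonoidHom.ext fun M => congrArg f ?_)
    exact (embF_sh_sh h 0 a _ ha M).trans (embF_congr h (sh_congr (by omega) _) M)
  · rw [← hB]
    exact congrArg MonoidHom.range (MonoidHom.ext fun M => congrArg f (embF_sh_sh h 1 a _ ha M))
  · obtain ⟨l, hl⟩ := hk _ hg
    refine ⟨l, fun x => funext fun i => ?_⟩
    have e := congrFun (hl (colMat F (sh a ha) *ᵥ x)) (sh a ha i)
    rw [embF_on, Pi.smul_apply, colMat_mulVec] at e
    rwa [show (colMat F (sh a ha) *ᵥ x) ∘ sh a ha = x from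
      funext fun b => colMat_mulVec _ x b] at e

namespace Sys

set_option maxHeartbeats 1600000 in
/-- The adjusted homomorphism. -/
theorem exists_rigid (S : Sys h 4 G) (hF : Nat.card F = q ^ 2) {U0 U1 U2 : Subgroup G}
    (C0 : IsChart h (S.κ 0) U0 U1) (C1 : IsChart h (S.κ 1) U1 U2)
    (π : Cfsg.SU 4 F q →* G) (hπ : ∀ g, π g = 1 → ∃ l : F, ∀ x, g.1.1 *ᵥ x = l • x)
    (b0 : (π.comp (embF h (sh 0 (show 0 + 2 ≤ 4 by omega)))).range = U0)
    (b1 : (π.comp (embF h (sh 1 (show 1 + 2 ≤ 4 by omega)))).range = U1)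
    (b2 : (π.comp (embF h (sh 2 (show 2 + 2 ≤ 4 by omega)))).range = U2)
    (det3 : ∀ f : Cfsg.SU 4 F q →* G, (∀ g, f g = 1 → ∃ l : F, ∀ x, g.1.1 *ᵥ x = l • x) →
      f.range = π.range →
      ∀ a (ha : a + 3 ≤ 4), (∀ M, f (embF h (sh a (show a + 2 ≤ 4 by omega)) M) = S.ν a M) →
        (∀ M, f (embF h (sh (a + 1) (show a + 1 + 2 ≤ 4 by omega)) M) = S.ν (a + 1) M) →
        ∀ M, f (embF h (sh a ha) M) = S.κ a M) :
    ∃ f : Cfsg.SU 4 F q →* G, ∀ i (hi : i + 3 ≤ 4) M, f (embF h (sh i hi) M) = S.κ i M := by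
  -- the properties kept during the adjustment
  let Ok : (Cfsg.SU 4 F q →* G) → Prop := fun f =>
    (∀ g, f g = 1 → ∃ l : F, ∀ x, g.1.1 *ᵥ x = l • x) ∧ f.range = π.range ∧
    (f.comp (embF h (sh 0 (show 0 + 2 ≤ 4 by omega)))).range = U0 ∧
    (f.comp (embF h (sh 1 (show 1 + 2 ≤ 4 by omega)))).range = U1 ∧
    (f.comp (embF h (sh 2 (show 2 + 2 ≤ 4 by omega)))).range = U2
  have tw : ∀ f, Ok f → ∀ (d : Fin 4 → F) (hd : ∀ i, d i * σ (d i) = 1) (τ : F ≃+* F),
      Ok (f.comp (twistHom h d hd τ)) := by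
    rintro f ⟨hk, hr, r0, r1, r2⟩ d hd τ
    have key : ∀ i (hi : i + 2 ≤ 4),
        ((f.comp (twistHom h d hd τ)).comp (embF h (sh i hi))).range =
          (f.comp (embF h (sh i hi))).range := by
      intro i hi
      refine le_antisymm ?_ ?_
      · rintro _ ⟨M, rfl⟩
        exact ⟨_, congrArg f (twist_embF h d hd τ _ M).symm⟩
      · rintro _ ⟨M, rfl⟩
        obtain ⟨M', rfl⟩ := twistHom_surjective h _ (fun a => hd (sh i hi a)) τ M
        exact ⟨M', congrArg f (twist_embF h d hd τ _ M')⟩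
    refine ⟨fun g hg => ?_, ?_, by rw [key]; exact r0, by rw [key]; exact r1, by rw [key]; exact r2⟩
    · obtain ⟨l, hl⟩ := hk _ hg
      refine ⟨τ.symm l, fun v => funext fun i => ?_⟩
      have := congrFun (hl (fun j => d j * τ (v j))) i
      rw [twistHom_mulVec] at this
      simp only [← mul_assoc, mul_comm (σ _) (d _), hd, one_mul, RingEquiv.symm_apply_apply,
        Pi.smul_apply, smul_eq_mul] at this
      apply τ.injective
      rw [Pi.smul_apply, smul_eq_mul, map_mul, RingEquiv.apply_symm_apply]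
      refine mul_left_cancel₀ (left_ne_zero_of_mul_eq_one (hd i)) (this.trans ?_)
      ring
    · rw [← hr]
      refine le_antisymm (by rintro _ ⟨g, rfl⟩; exact ⟨_, rfl⟩) ?_
      rintro _ ⟨g, rfl⟩
      obtain ⟨g', rfl⟩ := twistHom_surjective h d hd τ g
      exact ⟨g', rfl⟩
  -- charts
  have chart0 : ∀ f, Ok f → IsChart h (f.comp (embF h (sh 0 (show 0 + 3 ≤ 4 by omega)))) U0 U1 :=
    fun f hf => isChart_comp f hf.1 0 _ hf.2.2.1 hf.2.2.2.1
  have chart1 : ∀ f, Ok f → IsChart h (f.comp (embF h (sh 1 (show 1 + 3 ≤ 4 by omega)))) U1 U2 :=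
    fun f hf => isChart_comp f hf.1 1 _ hf.2.2.2.1 hf.2.2.2.2
  -- the comparison on one block
  have comp : ∀ (f : Cfsg.SU 4 F q →* G), Ok f → ∀ (i : ℕ) (hi : i + 2 ≤ 4) (U : Subgroup G),
      (S.ν i).range = U → Function.Injective (S.ν i) →
      (f.comp (embF h (sh i hi))).range = U → Function.Injective (f.comp (embF h (sh i hi))) →
      ∃ α : MulAut (Cfsg.SU 2 F q), ∀ M, f (embF h (sh i hi) (α M)) = S.ν i M := by
    intro f _ i hi U e1 i1 e2 i2
    exact ⟨(MonoidHom.ofInjective i1).trans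
      ((MulEquiv.subgroupCongr (e1.trans e2.symm)).trans (MonoidHom.ofInjective i2).symm),
      fun M => MonoidHom.apply_ofInjective_symm i2 _⟩
  have hν0 : S.ν 0 = (S.κ 0).comp (embF h (sh 0 (show 0 + 2 ≤ 3 by omega))) :=
    MonoidHom.ext fun M => (S.κ_left 0 (by omega) M).symm
  have hν1 : S.ν 1 = (S.κ 0).comp (embF h (sh 1 (show 1 + 2 ≤ 3 by omega))) :=
    MonoidHom.ext fun M => (S.κ_right 0 (by omega) M).symm
  have hν1' : S.ν 1 = (S.κ 1).comp (embF h (sh 0 (show 0 + 2 ≤ 3 by omega))) :=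
    MonoidHom.ext fun M => (S.κ_left 1 (by omega) M).symm
  have hν2 : S.ν 2 = (S.κ 1).comp (embF h (sh 1 (show 1 + 2 ≤ 3 by omega))) :=
    MonoidHom.ext fun M => (S.κ_right 1 (by omega) M).symm
  have inj4 : ∀ f, Ok f → ∀ (i : ℕ) (hi : i + 2 ≤ 4),
      Function.Injective (f.comp (embF h (sh i hi))) := by
    intro f hf i hi
    refine (injective_iff_map_eq_one _).2 fun M hM => ?_
    obtain ⟨l, hl⟩ := hf.1 _ hM
    obtain ⟨j, hj⟩ : ∃ j : Fin 4, j.val < i ∨ i + 2 ≤ j.val := by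
      rcases Nat.eq_zero_or_pos i with rfl | hp
      · exact ⟨3, Or.inr (by simp)⟩
      · exact ⟨0, Or.inl (by simp; omega)⟩
    have hl1 : l = 1 := by
      have := congrFun ((hl (Pi.single j 1)).symm.trans (sh_fix h i hi M hj 1)) j
      simpa using this
    refine embF_injective h (sh i hi) (?_ : _ = embF h (sh i hi) 1)
    rw [map_one]
    exact su_ext fun x => by rw [hl, hl1, one_smul, su_one_mulVec]
  obtain ⟨x0, hx0, hx01⟩ := exists_normOne_sq_ne_one hF
  -- the first block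
  have hok : Ok π := ⟨hπ, rfl, b0, b1, b2⟩
  obtain ⟨α, hα⟩ := comp π hok 0 (by omega) U0 (by rw [hν0]; exact C0.left)
    (by rw [hν0]; exact C0.inj 0 _) b0 (inj4 π hok 0 _)
  obtain ⟨τ, c, hc, hαM⟩ := exists_field_diag hF h α fun D hD => by
    refine (chart0 π hok).normal_diag' fun b hb => ?_
    rw [MonoidHom.comp_apply, embF_sh_sh, hα]
    rw [← C0.right] at hb ⊢
    obtain ⟨M, rfl⟩ := hb
    obtain ⟨M', hM'⟩ := exists_conj_sh (h := h) D hD 0 1 (show 0 + 2 ≤ 3 by omega) (by omega)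
      (Or.inl rfl) M
    exact ⟨M', by rw [MonoidHom.comp_apply, hM', map_mul, map_mul, map_inv, hν0]; rfl⟩
  have hd : ∀ i, (![1, c, 1, 1] : Fin 4 → F) i * σ (![1, c, 1, 1] i) = 1 := fun i => by
    fin_cases i <;> simp [hc]
  set f := π.comp (twistHom h ![1, c, 1, 1] hd τ) with hfdef
  have hf : Ok f := tw π hok _ hd τ
  have f0 : ∀ M, f (embF h (sh 0 (show 0 + 2 ≤ 4 by omega)) M) = S.ν 0 M := fun M => by
    rw [← hα, hfdef, MonoidHom.comp_apply, twist_embF]
    refine congrArg π (congrArg _ (su2_ext h ?_ ?_))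
    · rw [twistHom_entry, (hαM M).1]
      show (1 : F) * _ * σ (1 : F) = _
      rw [map_one, mul_one, one_mul]
    · rw [twistHom_entry, (hαM M).2]
      show c * _ * σ (1 : F) = _
      rw [map_one, mul_one]
  -- an automorphism of a later block acting as the identity on the torus
  have later : ∀ (f : Cfsg.SU 4 F q →* G) (i : ℕ) (hi : i + 3 ≤ 4) (α : MulAut (Cfsg.SU 2 F q)),
      Ok f → (∀ M, f (embF h (sh (i + 1) (show i + 1 + 2 ≤ 4 by omega)) (α M)) = S.ν (i + 1) M) →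
      (∀ M, f (embF h (sh i (show i + 2 ≤ 4 by omega)) M) = S.ν i M) →
      (∀ D, D.1.1 1 0 = 0 → (α D).1.1 1 0 = 0) →
      ∃ c : F, c * σ c = 1 ∧ ∀ M, (α M).1.1 0 0 = M.1.1 0 0 ∧ (α M).1.1 1 0 = c * M.1.1 1 0 := by
    intro f i hi α hf hα hprev hT
    obtain ⟨τ, c, hc, hαM⟩ := exists_field_diag hF h α hT
    obtain rfl : τ = RingEquiv.refl F := eq_refl_of_norm_one hF h τ fun x hx => by
      obtain ⟨X, hX⟩ := exists_diag_two h hx
      have hτx : τ x * σ (τ x) = 1 := by rw [← tau_comm h, ← map_mul, hx, map_one]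
      have hαX : (α X).1.1 = !![τ x, 0; 0, σ (τ x)] := by
        obtain ⟨a, b⟩ := su2_entries h (α X)
        have e0 : (α X).1.1 0 0 = τ x := by rw [(hαM X).1, hX]; rfl
        have e1 : (α X).1.1 1 0 = 0 := by rw [(hαM X).2, hX]; simp
        rw [e1, map_zero, neg_zero] at b
        rw [e0] at a
        ext r s
        fin_cases r <;> fin_cases s
        · exact e0
        · exact b
        · exact e1
        · exact a
      have hdx : ∀ a, (![1, x] : Fin 2 → F) a * σ (![1, x] a) = 1 := fun a => by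
        fin_cases a <;> simp [hx]
      have hdy : ∀ a, (![1, τ x] : Fin 2 → F) a * σ (![1, τ x] a) = 1 := fun a => by
        fin_cases a <;> simp [hτx]
      obtain ⟨t, t1, t0⟩ := exists_swap h
      have eG := congrArg f (conj_sh_twist (h := h) hτx hαX i hi t hdy)
      rw [map_mul, map_mul, map_inv, hα, hprev, hprev] at eG
      have eK := congrArg (S.κ i) (conj_sh_twist (h := h) hx hX 0 (show 0 + 3 ≤ 3 by omega) t hdx)
      rw [map_mul, map_mul, map_inv] at eK
      simp only [zero_add] at eK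
      rw [S.κ_right i hi, S.κ_left i hi, S.κ_left i hi] at eK
      have inj : Function.Injective (S.ν i) := by
        intro a b e
        refine inj4 f hf i (by omega) ?_
        show f _ = f _
        rw [hprev, hprev, e]
      have := inj (eG.symm.trans eK)
      have e10 := congrArg (fun g : Cfsg.SU 2 F q => g.1.1 1 0) this
      simp only [twistHom_entry] at e10
      have ht10 : t.1.1 1 0 = -1 := by
        have := congrFun t0 1
        rw [mulVec_single_one] at this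
        simpa using this
      simpa [ht10] using e10
    exact ⟨c, hc, fun M => by simpa using hαM M⟩
  -- the second block
  obtain ⟨α1, hα1⟩ := comp f hf 1 (by omega) U1 (by rw [hν1]; exact C0.right)
    (by rw [hν1]; exact C0.inj 1 _) hf.2.2.2.1 (inj4 f hf 1 _)
  obtain ⟨c1, hc1, hα1M⟩ := later f 0 (by omega) α1 hf hα1 f0 fun D hD => by
    refine (chart0 f hf).normal_diag fun a ha => ?_
    rw [MonoidHom.comp_apply, embF_sh_sh, hα1]
    rw [← C0.left] at ha ⊢
    obtain ⟨M, rfl⟩ := ha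
    obtain ⟨M', hM'⟩ := exists_conj_sh (h := h) D hD 1 0 (show 1 + 2 ≤ 3 by omega) (by omega)
      (Or.inr rfl) M
    exact ⟨M', by rw [MonoidHom.comp_apply, hM', map_mul, map_mul, map_inv, hν1]; rfl⟩
  have hd1 : ∀ i, (![1, 1, c1, 1] : Fin 4 → F) i * σ (![1, 1, c1, 1] i) = 1 := fun i => by
    fin_cases i <;> simp [hc1]
  set f' := f.comp (twistHom h ![1, 1, c1, 1] hd1 (RingEquiv.refl F)) with hf'def
  have hf' : Ok f' := tw f hf _ hd1 _
  have f'0 : ∀ M, f' (embF h (sh 0 (show 0 + 2 ≤ 4 by omega)) M) = S.ν 0 M := fun M => by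
    rw [← f0, hf'def, MonoidHom.comp_apply, twist_embF]
    refine congrArg f (congrArg _ (su2_ext h ?_ ?_)) <;>
      (rw [twistHom_entry]; show (1 : F) * _ * σ (1 : F) = _; simp)
  have f'1 : ∀ M, f' (embF h (sh 1 (show 1 + 2 ≤ 4 by omega)) M) = S.ν 1 M := fun M => by
    rw [← hα1, hf'def, MonoidHom.comp_apply, twist_embF]
    refine congrArg f (congrArg _ (su2_ext h ?_ ?_))
    · rw [twistHom_entry, (hα1M M).1]; show (1 : F) * _ * σ (1 : F) = _; simp
    · rw [twistHom_entry, (hα1M M).2]; show c1 * _ * σ (1 : F) = _; simp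
  -- the last block
  obtain ⟨α2, hα2⟩ := comp f' hf' 2 (by omega) U2 (by rw [hν2]; exact C1.right)
    (by rw [hν2]; exact C1.inj 1 _) hf'.2.2.2.2 (inj4 f' hf' 2 _)
  obtain ⟨c2, hc2, hα2M⟩ := later f' 1 (by omega) α2 hf' hα2 f'1 fun D hD => by
    refine (chart1 f' hf').normal_diag fun a ha => ?_
    rw [MonoidHom.comp_apply, embF_sh_sh, hα2]
    rw [← C1.left] at ha ⊢
    obtain ⟨M, rfl⟩ := ha
    obtain ⟨M', hM'⟩ := exists_conj_sh (h := h) D hD 1 0 (show 1 + 2 ≤ 3 by omega) (by omega)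
      (Or.inr rfl) M
    exact ⟨M', by rw [MonoidHom.comp_apply, hM', map_mul, map_mul, map_inv, hν2]; rfl⟩
  have hd2 : ∀ i, (![1, 1, 1, c2] : Fin 4 → F) i * σ (![1, 1, 1, c2] i) = 1 := fun i => by
    fin_cases i <;> simp [hc2]
  set f'' := f'.comp (twistHom h ![1, 1, 1, c2] hd2 (RingEquiv.refl F)) with hf''def
  have hf'' : Ok f'' := tw f' hf' _ hd2 _
  have f''0 : ∀ M, f'' (embF h (sh 0 (show 0 + 2 ≤ 4 by omega)) M) = S.ν 0 M := fun M => by
    rw [← f'0, hf''def, MonoidHom.comp_apply, twist_embF]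
    refine congrArg f' (congrArg _ (su2_ext h ?_ ?_)) <;>
      (rw [twistHom_entry]; show (1 : F) * _ * σ (1 : F) = _; simp)
  have f''1 : ∀ M, f'' (embF h (sh 1 (show 1 + 2 ≤ 4 by omega)) M) = S.ν 1 M := fun M => by
    rw [← f'1, hf''def, MonoidHom.comp_apply, twist_embF]
    refine congrArg f' (congrArg _ (su2_ext h ?_ ?_)) <;>
      (rw [twistHom_entry]; show (1 : F) * _ * σ (1 : F) = _; simp)
  have f''2 : ∀ M, f'' (embF h (sh 2 (show 2 + 2 ≤ 4 by omega)) M) = S.ν 2 M := fun M => by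
    rw [← hα2, hf''def, MonoidHom.comp_apply, twist_embF]
    refine congrArg f' (congrArg _ (su2_ext h ?_ ?_))
    · rw [twistHom_entry, (hα2M M).1]; show (1 : F) * _ * σ (1 : F) = _; simp
    · rw [twistHom_entry, (hα2M M).2]; show c2 * _ * σ (1 : F) = _; simp
  refine ⟨f'', fun i hi M => ?_⟩
  obtain rfl | rfl : i = 0 ∨ i = 1 := by omega
  · exact det3 f'' hf''.1 hf''.2.1 0 hi f''0 f''1 M
  · exact det3 f'' hf''.1 hf''.2.1 1 hi f''1 f''2 M

end Sys

end CfsgLib.Phan
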