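import Cfsg.Agent.Lib.Phan.Align

/-!
Two subgroups isomorphic to `SU 2` which generate `SU 3` and contain commuting elements of order
`q + 1` form a standard pair.
-/

set_option autoImplicit false

namespace CfsgLib.Phan

open Matrix CfsgLib.Classical CfsgLib.Classical.Unitary CfsgLib.Pres.SU CfsgLib.Pres.SU.Chain
open scoped MatrixGroups

variable {F : Type*} [Field F] [Finite F] {σ : F →+* F} {q : ℕ}

/-- Orthogonal isotropic vectors of a space of dimension three are proportional. -/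
theorem iso_prop (hF : Nat.card F = q ^ 2) (h : UFrob σ q) {u v : Fin 3 → F} (hu0 : u ≠ 0)
    (huu : uh σ u u = 0) (hvv : uh σ v v = 0) (huv : uh σ v u = 0) : ∃ c : F, v = c • u := by
  obtain ⟨α, hα⟩ := exists_alpha hF h
  obtain ⟨m, hm, -, hmu⟩ := exists_gu_std_iso h (o := (![] : Fin 0 → Fin 3 → F)) (fun i => i.elim0)
    (by omega) hα hu0 huu fun i => i.elim0
  obtain ⟨y, hy⟩ : ∃ y, y = (m⁻¹).1 *ᵥ v := ⟨_, rfl⟩
  have hmy : m.1 *ᵥ y = v := by rw [hy, mulVec_mulVec, m.mul_inv, one_mulVec]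
  have e1 : uh σ y (Pi.single (0 : Fin 3) 1 + Pi.single (1 : Fin 3) α) = 0 := by
    rw [← gu_uh h hm, hmy, show m.1 *ᵥ (Pi.single (0 : Fin 3) 1 + Pi.single (1 : Fin 3) α) = u
      from hmu, huv]
  rw [uh_add_right, uh_single_right, uh_single_right, map_one, mul_one] at e1
  have e2 : uh σ y y = 0 := by rw [← gu_uh h hm, hmy, hvv]
  simp [uh, dotProduct, Fin.sum_univ_three] at e2
  have hy0 : y 0 = -(y 1 * σ α) := by linear_combination e1
  rw [hy0, map_neg, map_mul, h.invol] at e2
  have h22 : y 2 * σ (y 2) = 0 := by linear_combination e2 - y 1 * σ (y 1) * hα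
  have hy2 : y 2 = 0 := by simpa using h22
  refine ⟨y 0, ?_⟩
  rw [← hmy, ← show m.1 *ᵥ (Pi.single (0 : Fin 3) 1 + Pi.single (1 : Fin 3) α) = u from hmu,
    ← mulVec_smul]
  congr 1
  funext i
  fin_cases i <;> simp [hy2]
  rw [hy0]; linear_combination y 1 * hα

/-- Involutions are transvections when the field has characteristic two. -/
theorem exists_transvection (hF : Nat.card F = q ^ 2) (h : UFrob σ q) (h2 : (2 : F) = 0)
    {g : Cfsg.SU 3 F q} (hgg : g * g = 1) (hg : g ≠ 1) :
    ∃ (v : Fin 3 → F) (l : F), v ≠ 0 ∧ l ≠ 0 ∧ uh σ v v = 0 ∧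
      ∀ x, g.1.1 *ᵥ x = x + (l * uh σ x v) • v := by
  have hgg' : ∀ x, g.1.1 *ᵥ (g.1.1 *ᵥ x) = x := fun x => by
    rw [← su_mul_mulVec, hgg, su_one_mulVec]
  have hsa : ∀ x y, uh σ (g.1.1 *ᵥ x - x) y = uh σ x (g.1.1 *ᵥ y - y) := fun x y => by
    rw [uh_sub_left, uh_sub_right, ← su_uh h g (g.1.1 *ᵥ x) y, hgg']
  have hsq : ∀ y, g.1.1 *ᵥ (g.1.1 *ᵥ y - y) - (g.1.1 *ᵥ y - y) = 0 := fun y => by
    rw [mulVec_sub, hgg']
    funext i
    simp only [Pi.sub_apply, Pi.zero_apply]
    linear_combination (y i - (g.1.1 *ᵥ y) i) * h2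
  have horth : ∀ x y, uh σ (g.1.1 *ᵥ x - x) (g.1.1 *ᵥ y - y) = 0 := fun x y => by
    rw [hsa, hsq, uh_zero_right]
  obtain ⟨x0, hx0⟩ : ∃ x0, g.1.1 *ᵥ x0 - x0 ≠ 0 := by
    by_contra hc
    push Not at hc
    exact hg (su_ext fun x => by rw [su_one_mulVec]; exact sub_eq_zero.1 (hc x))
  obtain ⟨v, hv⟩ : ∃ v, v = g.1.1 *ᵥ x0 - x0 := ⟨_, rfl⟩
  have hvv : uh σ v v = 0 := by rw [hv]; exact horth x0 x0
  rw [← hv] at hx0
  have hmul : ∀ x, ∃ μ : F, g.1.1 *ᵥ x - x = μ • v := fun x =>
    iso_prop hF h hx0 hvv (horth x x) (by rw [hv]; exact horth x x0)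
  have hne : uh σ v x0 ≠ 0 := by
    intro e
    apply hx0
    funext i
    have := (hsa (Pi.single i 1) x0).symm
    obtain ⟨μ, hμ⟩ := hmul (Pi.single i 1)
    rw [hμ, uh_smul_left, e, mul_zero, ← hv, uh_single_left, one_mul] at this
    simpa using this
  refine ⟨v, (uh σ v x0)⁻¹, hx0, inv_ne_zero hne, hvv, fun x => ?_⟩
  obtain ⟨μ, hμ⟩ := hmul x
  have e := hsa x x0
  rw [hμ, uh_smul_left, ← hv] at e
  rw [← e, mul_comm μ, inv_mul_cancel_left₀ hne, ← hμ, add_sub_cancel]

omit [Finite F] in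
/-- A group with no nontrivial characters fixes the vectors whose lines it preserves. -/
theorem fixed_of_line {X : Type*} [Group X] (hX : ∀ χ : X →* F, ∀ x, χ x = 1)
    (r : X →* Cfsg.SU 3 F q) {y : Fin 3 → F} (hy : y ≠ 0)
    (hline : ∀ x, ∃ c : F, (r x).1.1 *ᵥ y = c • y) : ∀ x, (r x).1.1 *ᵥ y = y := by
  choose c hc using hline
  have huniq : ∀ {a b : F}, a • y = b • y → a = b := fun e => smul_left_injective F hy e
  let χ : X →* F :=
    { toFun := c
      map_one' := huniq (by rw [← hc, map_one, su_one_mulVec, one_smul])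
      map_mul' := fun a b => huniq (by
        rw [← hc, map_mul, su_mul_mulVec, hc, mulVec_smul, hc, smul_smul, mul_comm (c b)]) }
  intro x
  rw [hc, show c x = 1 from hX χ x, one_smul]

/-- A subgroup isomorphic to `SL 2` fixes a vector of norm one. -/
theorem exists_fixed (hF : Nat.card F = q ^ 2) (h : UFrob σ q) (hq : 4 ≤ q)
    (r : SL(2, σ.eqLocusField (RingHom.id F)) →* Cfsg.SU 3 F q) (hr : Function.Injective r) :
    ∃ a : Fin 3 → F, uh σ a a = 1 ∧ ∀ x, (r x).1.1 *ᵥ a = a := by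
  let K := σ.eqLocusField (RingHom.id F)
  have hK : Nat.card K = q := fixed_card_eq hF h.pow
  suffices hs : ∃ y : Fin 3 → F, uh σ y y ≠ 0 ∧ ∀ x, (r x).1.1 *ᵥ y = y by
    obtain ⟨y, hy, hfix⟩ := hs
    obtain ⟨c, -, hc⟩ := exists_normalise hF h hy
    exact ⟨c • y, hc, fun x => by rw [mulVec_smul, hfix]⟩
  by_cases h2 : (2 : F) = 0
  · have h2K : (2 : K) = 0 := K.subtype.injective (by rw [map_ofNat, map_zero]; exact h2)
    let X : K → SL(2, K) := fun c =>
      Matrix.SpecialLinearGroup.transvection (show (0 : Fin 2) ≠ 1 by decide) c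
    let Y : K → SL(2, K) := fun c =>
      Matrix.SpecialLinearGroup.transvection (show (1 : Fin 2) ≠ 0 by decide) c
    have hX : ∀ c, (X c).1 = !![1, c; 0, 1] := fun c => by
      show (Matrix.SpecialLinearGroup.transvection _ c).1 = _
      rw [Matrix.SpecialLinearGroup.transvection_coe]
      ext i j
      fin_cases i <;> fin_cases j <;> simp
    have hY : ∀ c, (Y c).1 = !![1, 0; c, 1] := fun c => by
      show (Matrix.SpecialLinearGroup.transvection _ c).1 = _
      rw [Matrix.SpecialLinearGroup.transvection_coe]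
      ext i j
      fin_cases i <;> fin_cases j <;> simp
    have cc : ∀ c : K, c + c = 0 := fun c => by linear_combination c * h2K
    have hXX : ∀ a b, X a * X b = X (a + b) := fun a b => Subtype.ext (by
      show (X a).1 * (X b).1 = (X (a + b)).1
      rw [hX, hX, hX]; simp [add_comm])
    have hYY : ∀ a b, Y a * Y b = Y (a + b) := fun a b => Subtype.ext (by
      show (Y a).1 * (Y b).1 = (Y (a + b)).1
      rw [hY, hY, hY]; simp)
    have hX0 : X 0 = 1 := Subtype.ext (by
      rw [hX]; exact (Matrix.one_fin_two).symm)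
    have hY0 : Y 0 = 1 := Subtype.ext (by
      rw [hY]; exact (Matrix.one_fin_two).symm)
    have hXne : X 1 ≠ 1 := fun e => by
      have := congrFun (congrFun (congrArg Subtype.val e) 0) 1
      rw [hX] at this; simp at this
    have hYne : Y 1 ≠ 1 := fun e => by
      have := congrFun (congrFun (congrArg Subtype.val e) 1) 0
      rw [hY] at this; simp at this
    obtain ⟨v, l, hv0, hl, hvv, hv⟩ := exists_transvection hF h h2 (g := r (X 1))
      (by rw [← map_mul, hXX, cc, hX0, map_one]) (fun e => hXne (hr (e.trans (map_one r).symm)))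
    obtain ⟨w, m, hw0, hm, hww, hw⟩ := exists_transvection hF h h2 (g := r (Y 1))
      (by rw [← map_mul, hYY, cc, hY0, map_one]) (fun e => hYne (hr (e.trans (map_one r).symm)))
    have hvw : uh σ v w ≠ 0 := by
      intro e
      have e' := h.swap_zero e
      have hXY : X 1 * Y 1 = Y 1 * X 1 := hr (su_ext fun x => by
        rw [map_mul, map_mul, su_mul_mulVec, su_mul_mulVec]
        simp only [hv, hw, uh_add_left, uh_smul_left, e, e', mul_zero, add_zero]
        abel)
      have := congrFun (congrFun (congrArg Subtype.val hXY) 0) 0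
      change ((X 1).1 * (Y 1).1) 0 0 = ((Y 1).1 * (X 1).1) 0 0 at this
      rw [hX, hY] at this
      simp [Matrix.mul_apply, Fin.sum_univ_two] at this
    obtain ⟨y, hy, hy0⟩ : ∃ y, (uh σ y v = 0 ∧ uh σ y w = 0) ∧ y ≠ 0 := by
      let L : (Fin 3 → F) →ₗ[F] (Fin 2 → F) :=
        { toFun := fun y => ![uh σ y v, uh σ y w]
          map_add' := fun a b => by funext i; fin_cases i <;> simp [uh_add_left]
          map_smul' := fun c a => by funext i; fin_cases i <;> simp [uh_smul_left] }
      obtain ⟨y, hy, hy0⟩ := Submodule.exists_mem_ne_zero_of_ne_bot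
        (LinearMap.ker_ne_bot_of_finrank_lt (f := L) (by simp))
      refine ⟨y, ?_, hy0⟩
      have := LinearMap.mem_ker.1 hy
      exact ⟨congrFun this 0, congrFun this 1⟩
    refine ⟨y, fun e => ?_, ?_⟩
    · obtain ⟨c, hc⟩ := iso_prop hF h hv0 hvv e hy.1
      have := hy.2
      rw [hc, uh_smul_left] at this
      rcases mul_eq_zero.1 this with hc0 | hvw'
      · exact hy0 (by rw [hc, hc0, zero_smul])
      · exact hvw hvw'
    -- the other transvections have the same centres
    have fixes : ∀ (g g1 : Cfsg.SU 3 F q) (u : Fin 3 → F) (n : F), g * g = 1 → n ≠ 0 →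
        (∀ x, g1.1.1 *ᵥ x = x + (n * uh σ x u) • u) → u ≠ 0 → uh σ u u = 0 → Commute g g1 →
        uh σ y u = 0 → g.1.1 *ᵥ y = y := by
      intro g g1 u n hgg hn hg1 hu0 huu hcomm hyu
      by_cases hg : g = 1
      · rw [hg, su_one_mulVec]
      obtain ⟨z, k, hz0, hk, hzz, hz⟩ := exists_transvection hF h h2 hgg hg
      have huz : uh σ u z = 0 := by
        by_contra hne
        obtain ⟨x, hx⟩ : ∃ x, uh σ x z ≠ 0 := ⟨u, hne⟩
        have e := congrArg (fun k : Cfsg.SU 3 F q => k.1.1 *ᵥ x) hcomm.eq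
        simp only [su_mul_mulVec, hz, hg1, uh_add_left, uh_smul_left] at e
        -- the terms in the two centres
        have e' : (k * (n * uh σ x u * uh σ u z)) • z = (n * (k * uh σ x z * uh σ z u)) • u := by
          have e2 := sub_eq_zero.2 e
          refine sub_eq_zero.1 (Eq.trans ?_ e2)
          module
        have hzu : uh σ z u ≠ 0 := fun e0 => hne (h.swap_zero e0)
        have := congrArg (fun t => uh σ t z) e'
        simp only [uh_smul_left, hzz, mul_zero] at this
        exact mul_ne_zero (mul_ne_zero hn (mul_ne_zero (mul_ne_zero hk hx) hzu)) hne this.symm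
      obtain ⟨c, hc⟩ := iso_prop hF h hu0 huu hzz (h.swap_zero huz)
      rw [hz, hc, uh_smul_right, hyu, mul_zero, mul_zero, zero_smul, add_zero]
    have htop : (⊤ : Subgroup SL(2, K)) ≤
        ((MulAction.stabilizer (Cfsg.SU 3 F q) y).comap r) := by
      rw [← eq_top_of_transvection_mem ((MulAction.stabilizer (Cfsg.SU 3 F q) y).comap r)
        fun i j hij c => ?_]
      rw [Subgroup.mem_comap, MulAction.mem_stabilizer_iff]
      fin_cases i <;> fin_cases j
      · exact absurd rfl hij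
      · exact fixes (r (X c)) (r (X 1)) v l (by rw [← map_mul, hXX, cc, hX0, map_one]) hl hv hv0 hvv
          ((show Commute (X c) (X 1) by rw [Commute, SemiconjBy, hXX, hXX, add_comm]).map r) hy.1
      · exact fixes (r (Y c)) (r (Y 1)) w m (by rw [← map_mul, hYY, cc, hY0, map_one]) hm hw hw0 hww
          ((show Commute (Y c) (Y 1) by rw [Commute, SemiconjBy, hYY, hYY, add_comm]).map r) hy.2
      · exact absurd rfl hij
    exact fun x => htop (Subgroup.mem_top x)
  · -- the central involution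
    obtain ⟨z, hz⟩ : ∃ z, z = r (-1) := ⟨_, rfl⟩
    have hzz : ∀ x, z.1.1 *ᵥ (z.1.1 *ᵥ x) = x := fun x => by
      rw [← su_mul_mulVec, hz, ← map_mul, neg_mul_neg, one_mul, map_one, su_one_mulVec]
    let T := Matrix.mulVecLin z.1.1
    let P := LinearMap.ker (T - LinearMap.id)
    let M := LinearMap.ker (T + LinearMap.id)
    have hP : ∀ x, x ∈ P ↔ z.1.1 *ᵥ x = x := fun x => by
      simp [P, T, sub_eq_zero]
    have hM : ∀ x, x ∈ M ↔ z.1.1 *ᵥ x = -x := fun x => by
      simp [M, T, add_eq_zero_iff_eq_neg]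
    have hcompl : IsCompl P M := by
      refine ⟨Submodule.disjoint_def.2 fun x h1 h1' => ?_, ?_⟩
      · have e := ((hP x).1 h1).symm.trans ((hM x).1 h1')
        have : (2 : F) • x = 0 := by rw [two_smul]; exact add_eq_zero_iff_eq_neg.2 e
        exact (smul_eq_zero.1 this).resolve_left h2
      · rw [codisjoint_iff, Submodule.eq_top_iff']
        intro x
        refine Submodule.mem_sup.2 ⟨(2 : F)⁻¹ • (x + z.1.1 *ᵥ x), ?_, (2 : F)⁻¹ • (x - z.1.1 *ᵥ x),
          ?_, ?_⟩
        · rw [hP, mulVec_smul, mulVec_add, hzz, add_comm]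
        · rw [hM, mulVec_smul, mulVec_sub, hzz, ← smul_neg, neg_sub]
        · rw [← smul_add, show x + z.1.1 *ᵥ x + (x - z.1.1 *ᵥ x) = (2 : F) • x by
            rw [two_smul]; abel, inv_smul_smul₀ h2]
    have hPne : P ≠ ⊥ := by
      intro e
      have hneg : ∀ x, z.1.1 *ᵥ x = -x := fun x => (hM x).1 (by
        have := hcompl.sup_eq_top; rw [e, bot_sup_eq] at this; rw [this]; trivial)
      have : z.1.1 = -1 := Matrix.ext_iff_mulVec.2 fun x => by rw [hneg, neg_mulVec, one_mulVec]
      have hd : z.1.1.det = 1 := z.1.2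
      rw [this, det_neg, det_one] at hd
      simp at hd
      exact h2 (by linear_combination -hd)
    have hMne : M ≠ ⊥ := by
      intro e
      have hone : z = 1 := su_ext fun x => by
        rw [su_one_mulVec]
        exact (hP x).1 (by have := hcompl.sup_eq_top; rw [e, sup_bot_eq] at this; rw [this]; trivial)
      have h1 := hr ((hz.symm.trans hone).trans (map_one r).symm)
      have := congrFun (congrFun (congrArg Subtype.val h1) 0) 0
      simp at this
      exact h2 (by
        have := congrArg (Subfield.subtype K) this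
        simp at this
        linear_combination -this)
    have hsum := Submodule.finrank_add_eq_of_isCompl hcompl
    simp at hsum
    have hp := Submodule.one_le_finrank_iff.2 hPne
    have hm := Submodule.one_le_finrank_iff.2 hMne
    have hperp : ∀ x x', x ∈ P → x' ∈ M → uh σ x x' = 0 := fun x x' hx hx' => by
      have := su_uh h z x x'
      rw [(hP x).1 hx, (hM x').1 hx', show -x' = (-1 : F) • x' by simp, uh_smul_right, map_neg,
        map_one] at this
      have h22 : (2 : F) * uh σ x x' = 0 := by linear_combination -this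
      exact (mul_eq_zero.1 h22).resolve_left h2
    have hcomm : ∀ x, z * r x = r x * z := fun x => by
      rw [hz, ← map_mul, ← map_mul, neg_one_mul, mul_neg_one]
    have key : ∀ (W W' : Submodule F (Fin 3 → F)), IsCompl W W' →
        Module.finrank F W = 1 → (∀ x, ∀ y ∈ W, (r x).1.1 *ᵥ y ∈ W) →
        (∀ y ∈ W, ∀ y' ∈ W', uh σ y y' = 0) →
        ∃ y : Fin 3 → F, uh σ y y ≠ 0 ∧ ∀ x, (r x).1.1 *ᵥ y = y := by
      intro W W' hc h1 hinv horth
      obtain ⟨y, hy, hy0⟩ := Submodule.exists_mem_ne_zero_of_ne_bot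
        (show W ≠ ⊥ from fun e => by rw [e, finrank_bot] at h1; exact zero_ne_one h1)
      have hspan : ∀ u ∈ W, ∃ c : F, u = c • y := fun u hu => by
        obtain ⟨c, hc⟩ := (finrank_eq_one_iff_of_nonzero' (⟨y, hy⟩ : W)
          (fun e => hy0 (congrArg Subtype.val e))).1 h1 ⟨u, hu⟩
        exact ⟨c, (congrArg Subtype.val hc).symm⟩
      refine ⟨y, fun e => hy0 ?_, fixed_of_line (fun χ x => ?_) r hy0 fun x => hspan _ (hinv x y hy)⟩
      · funext i
        obtain ⟨a, ha, b, hb, hab⟩ : ∃ a ∈ W, ∃ b ∈ W', a + b = Pi.single i 1 :=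
          Submodule.mem_sup.1 (hc.sup_eq_top ▸ Submodule.mem_top)
        obtain ⟨c, rfl⟩ := hspan a ha
        have := uh_single_right (σ := σ) i (1 : F) y
        rw [← hab, uh_add_right, uh_smul_right, e, mul_zero, horth y hy b hb, add_zero, map_one,
          mul_one] at this
        exact this.symm
      · have hu := SL_fin_commutator_eq_top (F := K) 2 le_rfl fun _ => by rw [hK]; exact hq
        have hle := Abelianization.commutator_subset_ker χ.toHomUnits
        rw [hu] at hle
        have := MonoidHom.mem_ker.1 (hle (Subgroup.mem_top x))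
        exact congrArg Units.val this
    rcases (show Module.finrank F P = 1 ∨ Module.finrank F M = 1 by omega) with h1 | h1
    · refine key P M hcompl h1 (fun x y hy => ?_) fun y hy y' hy' => hperp y y' hy hy'
      rw [hP] at hy ⊢
      rw [← su_mul_mulVec, hcomm, su_mul_mulVec, hy]
    · refine key M P hcompl.symm h1 (fun x y hy => ?_) fun y hy y' hy' =>
        h.swap_zero (hperp y' y hy' hy)
      rw [hM] at hy ⊢
      rw [← su_mul_mulVec, hcomm, su_mul_mulVec, hy, mulVec_neg]

/-- Elements of order `q + 1` of `SU 2` fix no nonzero vector. -/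
theorem no_fixed_vec (hF : Nat.card F = q ^ 2) (M : Cfsg.SU 2 F q) (hM : orderOf M = q + 1)
    {v : Fin 2 → F} (hv : M.1.1 *ᵥ v = v) : v = 0 := by
  by_contra hv0
  have hd : M.1.1 0 0 * M.1.1 1 1 - M.1.1 0 1 * M.1.1 1 0 = 1 := by
    rw [← det_fin_two]; exact M.1.2
  have h1 : (M.1.1 - 1).det = 0 := Matrix.exists_mulVec_eq_zero_iff.1
    ⟨v, hv0, by rw [sub_mulVec, one_mulVec, hv, sub_self]⟩
  rw [det_fin_two] at h1
  simp at h1
  have ht : M.1.1 0 0 + M.1.1 1 1 = 2 := by linear_combination hd - h1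
  have hN : (M.1.1 - 1) * (M.1.1 - 1) = 0 := by
    ext i j
    fin_cases i <;> fin_cases j <;> simp [Matrix.mul_apply, Fin.sum_univ_two]
    · linear_combination M.1.1 0 0 * ht - hd
    · linear_combination M.1.1 0 1 * ht
    · linear_combination M.1.1 1 0 * ht
    · linear_combination M.1.1 1 1 * ht - hd
  have hpow : ∀ m : ℕ, (M ^ m).1.1 = 1 + (m : F) • (M.1.1 - 1) := by
    intro m
    induction m with
    | zero => simp
    | succ m ih =>
      rw [pow_succ]
      show (M ^ m).1.1 * M.1.1 = _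
      rw [ih, Nat.cast_succ, add_smul, one_smul]
      conv_lhs => arg 2; rw [show M.1.1 = 1 + (M.1.1 - 1) by abel]
      rw [mul_add, mul_one, add_mul, one_mul, Matrix.smul_mul, hN, smul_zero, add_zero, add_assoc]
  obtain ⟨p, hp⟩ := CharP.exists F
  have hpp : p.Prime := CharP.char_is_prime F p
  have hpM : M ^ p = 1 := Subtype.ext (Subtype.ext (by
    rw [hpow, CharP.cast_eq_zero, zero_smul, add_zero]; rfl))
  have hdvd : q + 1 ∣ p := hM ▸ orderOf_dvd_of_pow_eq_one hpM
  rcases hpp.eq_one_or_self_of_dvd _ hdvd with e | e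
  · have := two_le_q hF; omega
  · have := Fintype.ofFinite F
    obtain ⟨n, -, hn⟩ := FiniteField.card F p
    rw [← Nat.card_eq_fintype_card, hF] at hn
    have h1 : p ∣ q ^ 2 := hn ▸ dvd_pow_self p (PNat.ne_zero n)
    have h2 : p ∣ q := hpp.dvd_of_dvd_pow h1
    have := Nat.le_of_dvd (by have := two_le_q hF; omega) h2
    omega

variable {h : UFrob σ q}

omit [Finite F] in
/-- The stabiliser of a vector of norm one in the frame of a matrix. -/
theorem le_map_conj (g : Cfsg.SU 3 F q) (i : ℕ) (hi : i + 2 ≤ 3) {j : Fin 3}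
    (hj : ∀ l : Fin 3, (l.val < i ∨ i + 2 ≤ l.val) → l = j) {x : Cfsg.SU 3 F q}
    (hx : x.1.1 *ᵥ (g.1.1 *ᵥ Pi.single j 1) = g.1.1 *ᵥ Pi.single j 1) :
    x ∈ (embF h (sh i hi)).range.map (MulAut.conj g).toMonoidHom := by
  refine ⟨g⁻¹ * x * g, mem_range_sh h i hi _ fun l hl => ?_, ?_⟩
  · rw [hj l hl, su_mul_mulVec, su_mul_mulVec, hx, su_inv_mulVec]
  · show g * (g⁻¹ * x * g) * g⁻¹ = x
    group

/-- The pair is standard. -/
theorem standard_of_commuting (hF : Nat.card F = q ^ 2) (h : UFrob σ q) (hq : 4 ≤ q)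
    (rA rB : Cfsg.SU 2 F q →* Cfsg.SU 3 F q) (hA : Function.Injective rA)
    (hB : Function.Injective rB) (hgen : rA.range ⊔ rB.range = ⊤) (dA dB : Cfsg.SU 2 F q)
    (hdA : orderOf dA = q + 1) (hdB : orderOf dB = q + 1) (hd : Commute (rA dA) (rB dB)) :
    ∃ g : Cfsg.SU 3 F q,
      rA.range = (embF h (sh 0 (show 0 + 2 ≤ 3 by omega))).range.map (MulAut.conj g).toMonoidHom ∧
      rB.range = (embF h (sh 1 (show 1 + 2 ≤ 3 by omega))).range.map (MulAut.conj g).toMonoidHom := by
  obtain ⟨P, e, -⟩ := exists_model hF h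
  obtain ⟨a, ha, hfa⟩ := exists_fixed hF h hq (rA.comp e.toMonoidHom) (hA.comp e.injective)
  obtain ⟨b, hb, hfb⟩ := exists_fixed hF h hq (rB.comp e.toMonoidHom) (hB.comp e.injective)
  have fixA : ∀ M, (rA M).1.1 *ᵥ a = a := fun M => by
    obtain ⟨x, rfl⟩ := e.surjective M; exact hfa x
  have fixB : ∀ M, (rB M).1.1 *ᵥ b = b := fun M => by
    obtain ⟨x, rfl⟩ := e.surjective M; exact hfb x
  -- an element of order `q + 1` fixes just one line
  have line : ∀ (r : Cfsg.SU 2 F q →* Cfsg.SU 3 F q), Function.Injective r → ∀ (u : Fin 3 → F),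
      uh σ u u = 1 → (∀ M, (r M).1.1 *ᵥ u = u) → ∀ d, orderOf d = q + 1 →
      ∀ x, (r d).1.1 *ᵥ x = x → ∃ c : F, x = c • u := by
    intro r hr u hu hfix d hdo x hx
    obtain ⟨g, hg⟩ := exists_su_map hF h (on_single (σ := σ) (a := (Pi.single 2 1 : Fin 3 → F))
      (by simp [uh_single_left])) (on_single hu) (by omega)
    have hg2 : g.1.1 *ᵥ Pi.single 2 1 = u := hg 0
    obtain ⟨_, ⟨M, rfl⟩, hM⟩ := le_map_conj (h := h) g 0 (show 0 + 2 ≤ 3 by omega) (j := 2)
      (fun l hl => Fin.ext (by simp; omega)) (x := r d) (by rw [hg2]; exact hfix d)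
    have hMo : orderOf M = q + 1 := by
      rw [← hdo, ← orderOf_injective r hr d, ← hM,
        ← orderOf_injective (((MulAut.conj g).toMonoidHom).comp (embF h (sh 0 _)))
          ((MulAut.conj g).injective.comp (embF_injective h _)) M]
      rfl
    obtain ⟨v, hv⟩ : ∃ v, v = (g⁻¹).1.1 *ᵥ x := ⟨_, rfl⟩
    have hv' : (embF h (sh 0 (show 0 + 2 ≤ 3 by omega)) M).1.1 *ᵥ v = v := by
      rw [← hM] at hx
      change (g * _ * g⁻¹ : Cfsg.SU 3 F q).1.1 *ᵥ x = x at hx
      rw [su_mul_mulVec, su_mul_mulVec, ← hv] at hx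
      have := congrArg (fun t => (g⁻¹).1.1 *ᵥ t) hx
      simpa only [su_inv_mulVec, ← hv] using this
    have h01 : v ∘ sh 0 (show 0 + 2 ≤ 3 by omega) = 0 := no_fixed_vec hF M hMo (funext fun i =>
      (embF_on h _ M v i).symm.trans (congrFun hv' _))
    refine ⟨v 2, ?_⟩
    have e0 : v 0 = 0 := congrFun h01 0
    have e1 : v 1 = 0 := congrFun h01 1
    have hv2 : v = v 2 • (Pi.single 2 1 : Fin 3 → F) := by
      funext i
      fin_cases i
      · simp [e0]
      · simp [e1]
      · simp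
    rw [← hg2, ← mulVec_smul, ← hv2, hv, su_mulVec_inv]
  have hab : uh σ b a = 0 := by
    by_contra hne
    obtain ⟨μ, hμ⟩ := line rA hA a ha fixA dA hdA ((rB dB).1.1 *ᵥ a) (by
      rw [← su_mul_mulVec, hd.eq, su_mul_mulVec, fixA])
    have hμ1 : μ = 1 := by
      have := su_uh h (rB dB) a b
      rw [fixB, hμ, uh_smul_left] at this
      exact (mul_eq_right₀ fun e => hne (h.swap_zero e)).1 this
    rw [hμ1, one_smul] at hμ
    obtain ⟨c, hc⟩ := line rB hB b hb fixB dB hdB a hμ
    have hall : ∀ x : Cfsg.SU 3 F q, x.1.1 *ᵥ a = a := fun x => by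
      have hle : rA.range ⊔ rB.range ≤ MulAction.stabilizer (Cfsg.SU 3 F q) a := by
        refine sup_le ?_ ?_
        · rintro _ ⟨M, rfl⟩; exact fixA M
        · rintro _ ⟨M, rfl⟩
          show (rB M).1.1 *ᵥ a = a
          rw [hc, mulVec_smul, fixB]
      exact hle (hgen ▸ Subgroup.mem_top x)
    obtain ⟨z, hz, hz'⟩ := exists_perp h (on_single ha) (by omega : 1 < 3)
    obtain ⟨g, hg⟩ := exists_su_map hF h (on_single ha) (on_single hz) (by omega)
    have e := hz' 0
    rw [show z = g.1.1 *ᵥ a from (hg 0).symm, hall] at e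
    exact one_ne_zero (ha.symm.trans e)
  obtain ⟨g, hg⟩ := exists_su_map hF h
    (on_pair h (a := (Pi.single 2 1 : Fin 3 → F)) (b := Pi.single 0 1) (by simp [uh_single_left])
      (by simp [uh_single_left]) (by simp [uh_single_left]))
    (on_pair h ha hb (h.swap_zero hab)) (by omega)
  have hg2 : g.1.1 *ᵥ Pi.single 2 1 = a := hg 0
  have hg0 : g.1.1 *ᵥ Pi.single 0 1 = b := hg 1
  have eq : ∀ (r : Cfsg.SU 2 F q →* Cfsg.SU 3 F q), Function.Injective r → ∀ (i : ℕ) (hi : i + 2 ≤ 3)
      (j : Fin 3), (∀ l : Fin 3, (l.val < i ∨ i + 2 ≤ l.val) → l = j) →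
      (∀ M, (r M).1.1 *ᵥ (g.1.1 *ᵥ Pi.single j 1) = g.1.1 *ᵥ Pi.single j 1) →
      r.range = (embF h (sh i hi)).range.map (MulAut.conj g).toMonoidHom := by
    intro r hr i hi j hj hfix
    refine Subgroup.eq_of_le_of_card_ge (fun x hx => ?_) (le_of_eq ?_)
    · obtain ⟨M, rfl⟩ := hx
      exact le_map_conj (h := h) g i hi hj (hfix M)
    · rw [← MonoidHom.range_comp, ← Nat.card_congr (MonoidHom.ofInjective hr).toEquiv,
        ← Nat.card_congr (MonoidHom.ofInjective
          (f := ((MulAut.conj g).toMonoidHom).comp (embF h (sh i hi)))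
          ((MulAut.conj g).injective.comp (embF_injective h _))).toEquiv]
  exact ⟨g, eq rA hA 0 _ 2 (fun l hl => Fin.ext (by simp; omega)) (fun M => by rw [hg2]; exact fixA M),
    eq rB hB 1 _ 0 (fun l hl => Fin.ext (by simp; omega)) (fun M => by rw [hg0]; exact fixB M)⟩

end CfsgLib.Phan
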