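import Cfsg.Agent.Lib.Phan.Blocks

/-!
Field automorphisms and diagonal unitary matrices acting on the special unitary groups, and blocks.
-/

set_option autoImplicit false

namespace CfsgLib.Phan

open Matrix CfsgLib.Classical CfsgLib.Classical.Unitary CfsgLib.Pres.SU CfsgLib.Pres.SU.Chain

variable {F : Type*} [Field F] {σ : F →+* F} {q k n : ℕ}

theorem tau_comm (h : UFrob σ q) (τ : F ≃+* F) (x : F) : τ (σ x) = σ (τ x) := by
  rw [h.pow, map_pow, ← h.pow]

theorem tau_symm_apply (h : UFrob σ q) (τ : F ≃+* F) (x : F) : τ.symm (σ x) = σ (τ.symm x) :=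
  tau_comm h τ.symm x

/-- The matrix of the twist. -/
def twistMat (σ : F →+* F) (d : Fin k → F) (τ : F ≃+* F) (M : Matrix (Fin k) (Fin k) F) :
    Matrix (Fin k) (Fin k) F :=
  Matrix.diagonal d * M.map τ * Matrix.diagonal (fun i => σ (d i))

theorem twistMat_apply (d : Fin k → F) (τ : F ≃+* F) (M : Matrix (Fin k) (Fin k) F) (i j : Fin k) :
    twistMat σ d τ M i j = d i * τ (M i j) * σ (d j) := by
  simp [twistMat]

theorem twistMat_mulVec (d : Fin k → F) (τ : F ≃+* F) (M : Matrix (Fin k) (Fin k) F)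
    (x : Fin k → F) (i : Fin k) :
    (twistMat σ d τ M *ᵥ x) i = d i * τ ((M *ᵥ fun j => τ.symm (σ (d j) * x j)) i) := by
  simp only [mulVec, dotProduct, twistMat_apply, map_sum, Finset.mul_sum, map_mul,
    RingEquiv.apply_symm_apply]
  exact Finset.sum_congr rfl fun j _ => by ring

theorem twistMat_mul {d : Fin k → F} (hd : ∀ i, d i * σ (d i) = 1) (τ : F ≃+* F)
    (M N : Matrix (Fin k) (Fin k) F) :
    twistMat σ d τ (M * N) = twistMat σ d τ M * twistMat σ d τ N := by
  have : Matrix.diagonal (fun i => σ (d i)) * Matrix.diagonal d = 1 := by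
    rw [diagonal_mul_diagonal, ← diagonal_one]
    congr 1
    funext i
    rw [mul_comm, hd]
  simp only [twistMat]
  rw [Matrix.map_mul]
  simp only [Matrix.mul_assoc]
  rw [← Matrix.mul_assoc (Matrix.diagonal fun i => σ (d i)) (Matrix.diagonal d), this, Matrix.one_mul]

theorem twistMat_one {d : Fin k → F} (hd : ∀ i, d i * σ (d i) = 1) (τ : F ≃+* F) :
    twistMat σ d τ (1 : Matrix (Fin k) (Fin k) F) = 1 := by
  rw [twistMat, Matrix.map_one _ (map_zero τ) (map_one τ), Matrix.mul_one, diagonal_mul_diagonal,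
    ← diagonal_one]
  congr 1
  funext i
  exact hd i

theorem twistMat_det {d : Fin k → F} (hd : ∀ i, d i * σ (d i) = 1) (τ : F ≃+* F)
    {M : Matrix (Fin k) (Fin k) F} (hM : M.det = 1) : (twistMat σ d τ M).det = 1 := by
  rw [twistMat, det_mul, det_mul, det_diagonal, det_diagonal,
    show (M.map τ).det = τ M.det from (RingHom.map_det (τ : F →+* F) M).symm, hM, map_one, mul_one,
    ← Finset.prod_mul_distrib, Finset.prod_eq_one fun i _ => hd i]

/-- The twist by a diagonal unitary matrix and a field automorphism. -/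
def twistHom (h : UFrob σ q) (d : Fin k → F) (hd : ∀ i, d i * σ (d i) = 1) (τ : F ≃+* F) :
    Cfsg.SU k F q →* Cfsg.SU k F q where
  toFun M := ⟨⟨twistMat σ d τ M.1.1, twistMat_det hd τ M.1.2⟩, mem_SU_iff.2 fun x y => by
    show Cfsg.hermForm k F q (twistMat σ d τ M.1.1 *ᵥ x) (twistMat σ d τ M.1.1 *ᵥ y) = _
    rw [h.hermForm_eq, h.hermForm_eq]
    obtain ⟨x', hx'⟩ : ∃ x' : Fin k → F, x' = fun j => τ.symm (σ (d j) * x j) := ⟨_, rfl⟩
    obtain ⟨y', hy'⟩ : ∃ y' : Fin k → F, y' = fun j => τ.symm (σ (d j) * y j) := ⟨_, rfl⟩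
    have e := congrArg τ (su_uh h M x' y')
    obtain ⟨X, hX⟩ : ∃ X, X = M.1.1 *ᵥ x' := ⟨_, rfl⟩
    obtain ⟨Y, hY⟩ : ∃ Y, Y = M.1.1 *ᵥ y' := ⟨_, rfl⟩
    rw [← hX, ← hY] at e
    simp only [uh, dotProduct, Function.comp_apply, map_sum, map_mul, tau_comm h] at e
    simp only [uh, dotProduct, Function.comp_apply, twistMat_mulVec]
    rw [← hx', ← hy', ← hX, ← hY]
    simp only [map_mul]
    refine Eq.trans ?_ (e.trans (Finset.sum_congr rfl fun i _ => ?_))
    · exact Finset.sum_congr rfl fun i _ => by linear_combination τ (X i) * σ (τ (Y i)) * hd i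
    · rw [hx', hy', RingEquiv.apply_symm_apply, RingEquiv.apply_symm_apply, map_mul, h.invol]
      linear_combination x i * σ (y i) * hd i⟩
  map_one' := Subtype.ext (Subtype.ext (twistMat_one hd τ))
  map_mul' M N := Subtype.ext (Subtype.ext (twistMat_mul hd τ M.1.1 N.1.1))

theorem twistHom_entry (h : UFrob σ q) (d : Fin k → F) (hd : ∀ i, d i * σ (d i) = 1) (τ : F ≃+* F)
    (M : Cfsg.SU k F q) (i j : Fin k) :
    (twistHom h d hd τ M).1.1 i j = d i * τ (M.1.1 i j) * σ (d j) := twistMat_apply d τ _ i j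

theorem twistHom_injective (h : UFrob σ q) (d : Fin k → F) (hd : ∀ i, d i * σ (d i) = 1)
    (τ : F ≃+* F) : Function.Injective (twistHom h d hd τ) := fun M N e => by
  refine Subtype.ext (Subtype.ext (Matrix.ext fun i j => τ.injective ?_))
  have := congrArg (fun g : Cfsg.SU k F q => g.1.1 i j) e
  simp only [twistHom_entry] at this
  exact mul_left_cancel₀ (left_ne_zero_of_mul_eq_one (hd i))
    (mul_right_cancel₀ (right_ne_zero_of_mul_eq_one (hd j)) this)

theorem twistHom_surjective [Finite F] (h : UFrob σ q) (d : Fin k → F)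
    (hd : ∀ i, d i * σ (d i) = 1) (τ : F ≃+* F) : Function.Surjective (twistHom h d hd τ) :=
  Finite.injective_iff_surjective.1 (twistHom_injective h d hd τ)

theorem twistHom_mulVec (h : UFrob σ q) (d : Fin k → F) (hd : ∀ i, d i * σ (d i) = 1)
    (τ : F ≃+* F) (M : Cfsg.SU k F q) (x : Fin k → F) (i : Fin k) :
    ((twistHom h d hd τ M).1.1 *ᵥ x) i = d i * τ ((M.1.1 *ᵥ fun j => τ.symm (σ (d j) * x j)) i) :=
  twistMat_mulVec d τ _ x i

/-- Twists and blocks. -/
theorem twist_embF (h : UFrob σ q) (d : Fin n → F) (hd : ∀ i, d i * σ (d i) = 1) (τ : F ≃+* F)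
    (f : Fin k ↪ Fin n) (M : Cfsg.SU k F q) :
    twistHom h d hd τ (embF h f M) =
      embF h f (twistHom h (fun i => d (f i)) (fun i => hd (f i)) τ M) := by
  refine embF_ext h _ _ (fun x i => ?_) fun x j hj => ?_
  · rw [twistHom_mulVec, twistHom_mulVec, embF_on]
    rfl
  · rw [twistHom_mulVec, embF_off h f M _ hj, RingEquiv.apply_symm_apply, ← mul_assoc, hd, one_mul]

end CfsgLib.Phan
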